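import Cfsg.Agent.Lib.Helper12.OutFi24.Cent1

/-! the images of the first point under the centraliser of the element of order `11`, part 0 (generated, helper12) -/

set_option autoImplicit false
set_option maxRecDepth 1000000

namespace Cfsg.Agent.Lib.Helper12.OutFi24

theorem C1Chk_0 : scanK fC1 0 2000 = true := by decide +kernel

theorem C1Chk_1 : scanK fC1 2000 4809 = true := by decide +kernel

theorem C1Chk_2 : scanK fC1 4809 8107 = true := by decide +kernel

theorem C1Chk_3 : scanK fC1 8107 12424 = true := by decide +kernel

end Cfsg.Agent.Lib.Helper12.OutFi24
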