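import Cfsg.Agent.Lib.Helper12.OutFi24.Cent1

/-! the images of the first point under the centraliser of the element of order `11`, part 1 (generated, helper12) -/

set_option autoImplicit false
set_option maxRecDepth 1000000

namespace Cfsg.Agent.Lib.Helper12.OutFi24

theorem C1Chk_4 : scanK fC1 12424 17396 = true := by decide +kernel

theorem C1Chk_5 : scanK fC1 17396 23279 = true := by decide +kernel

theorem C1Chk_6 : scanK fC1 23279 28820 = true := by decide +kernel

theorem C1Chk_7 : scanK fC1 28820 35441 = true := by decide +kernel

end Cfsg.Agent.Lib.Helper12.OutFi24
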