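import Cfsg.Agent.Lib.Helper12.OutFi24.Cent1

/-! the images of the first point under the centraliser of the element of order `11`, part 10 (generated, helper12) -/

set_option autoImplicit false
set_option maxRecDepth 1000000

namespace Cfsg.Agent.Lib.Helper12.OutFi24

theorem C1Chk_40 : scanK fC1 174653 179191 = true := by decide +kernel

theorem C1Chk_41 : scanK fC1 179191 185196 = true := by decide +kernel

theorem C1Chk_42 : scanK fC1 185196 187553 = true := by decide +kernel

theorem C1Chk_43 : scanK fC1 187553 193684 = true := by decide +kernel

end Cfsg.Agent.Lib.Helper12.OutFi24
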