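import Cfsg.Agent.Lib.Helper12.OutFi24.Cent1

/-! the images of the first point under the centraliser of the element of order `11`, part 11 (generated, helper12) -/

set_option autoImplicit false
set_option maxRecDepth 1000000

namespace Cfsg.Agent.Lib.Helper12.OutFi24

theorem C1Chk_44 : scanK fC1 193684 198285 = true := by decide +kernel

theorem C1Chk_45 : scanK fC1 198285 202138 = true := by decide +kernel

theorem C1Chk_46 : scanK fC1 202138 207104 = true := by decide +kernel

theorem C1Chk_47 : scanK fC1 207104 210653 = true := by decide +kernel

end Cfsg.Agent.Lib.Helper12.OutFi24
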