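import Cfsg.Agent.Lib.Helper12.OutFi24.Cent1

/-! the images of the first point under the centraliser of the element of order `11`, part 12 (generated, helper12) -/

set_option autoImplicit false
set_option maxRecDepth 1000000

namespace Cfsg.Agent.Lib.Helper12.OutFi24

theorem C1Chk_48 : scanK fC1 210653 214189 = true := by decide +kernel

theorem C1Chk_49 : scanK fC1 214189 219168 = true := by decide +kernel

theorem C1Chk_50 : scanK fC1 219168 223135 = true := by decide +kernel

theorem C1Chk_51 : scanK fC1 223135 226336 = true := by decide +kernel

end Cfsg.Agent.Lib.Helper12.OutFi24
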