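import Cfsg.Agent.Lib.Helper12.OutFi24.Cent1

/-! the images of the first point under the centraliser of the element of order `11`, part 13 (generated, helper12) -/

set_option autoImplicit false
set_option maxRecDepth 1000000

namespace Cfsg.Agent.Lib.Helper12.OutFi24

theorem C1Chk_52 : scanK fC1 226336 230825 = true := by decide +kernel

theorem C1Chk_53 : scanK fC1 230825 233632 = true := by decide +kernel

theorem C1Chk_54 : scanK fC1 233632 237306 = true := by decide +kernel

theorem C1Chk_55 : scanK fC1 237306 241570 = true := by decide +kernel

end Cfsg.Agent.Lib.Helper12.OutFi24
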