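import Cfsg.Agent.Lib.Helper12.OutFi24.Cent1

/-! the images of the first point under the centraliser of the element of order `11`, part 14 (generated, helper12) -/

set_option autoImplicit false
set_option maxRecDepth 1000000

namespace Cfsg.Agent.Lib.Helper12.OutFi24

theorem C1Chk_56 : scanK fC1 241570 245096 = true := by decide +kernel

theorem C1Chk_57 : scanK fC1 245096 248324 = true := by decide +kernel

theorem C1Chk_58 : scanK fC1 248324 251185 = true := by decide +kernel

theorem C1Chk_59 : scanK fC1 251185 254136 = true := by decide +kernel

end Cfsg.Agent.Lib.Helper12.OutFi24
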