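import Cfsg.Agent.Lib.Helper12.OutFi24.Cent1

/-! the images of the first point under the centraliser of the element of order `11`, part 15 (generated, helper12) -/

set_option autoImplicit false
set_option maxRecDepth 1000000

namespace Cfsg.Agent.Lib.Helper12.OutFi24

theorem C1Chk_60 : scanK fC1 254136 257479 = true := by decide +kernel

theorem C1Chk_61 : scanK fC1 257479 260301 = true := by decide +kernel

theorem C1Chk_62 : scanK fC1 260301 262653 = true := by decide +kernel

theorem C1Chk_63 : scanK fC1 262653 265412 = true := by decide +kernel

end Cfsg.Agent.Lib.Helper12.OutFi24
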