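import Cfsg.Agent.Lib.Helper12.OutFi24.Cent1

/-! the images of the first point under the centraliser of the element of order `11`, part 16 (generated, helper12) -/

set_option autoImplicit false
set_option maxRecDepth 1000000

namespace Cfsg.Agent.Lib.Helper12.OutFi24

theorem C1Chk_64 : scanK fC1 265412 267770 = true := by decide +kernel

theorem C1Chk_65 : scanK fC1 267770 270426 = true := by decide +kernel

theorem C1Chk_66 : scanK fC1 270426 272730 = true := by decide +kernel

theorem C1Chk_67 : scanK fC1 272730 275238 = true := by decide +kernel

end Cfsg.Agent.Lib.Helper12.OutFi24
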