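import Cfsg.Agent.Lib.Helper12.OutFi24.Cent1

/-! the images of the first point under the centraliser of the element of order `11`, part 17 (generated, helper12) -/

set_option autoImplicit false
set_option maxRecDepth 1000000

namespace Cfsg.Agent.Lib.Helper12.OutFi24

theorem C1Chk_68 : scanK fC1 275238 277010 = true := by decide +kernel

theorem C1Chk_69 : scanK fC1 277010 280202 = true := by decide +kernel

theorem C1Chk_70 : scanK fC1 280202 285602 = true := by decide +kernel

theorem C1Chk_71 : scanK fC1 285602 289489 = true := by decide +kernel

end Cfsg.Agent.Lib.Helper12.OutFi24
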