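import Cfsg.Agent.Lib.Helper12.OutFi24.Cent1

/-! the images of the first point under the centraliser of the element of order `11`, part 18 (generated, helper12) -/

set_option autoImplicit false
set_option maxRecDepth 1000000

namespace Cfsg.Agent.Lib.Helper12.OutFi24

theorem C1Chk_72 : scanK fC1 289489 292732 = true := by decide +kernel

theorem C1Chk_73 : scanK fC1 292732 295780 = true := by decide +kernel

theorem C1Chk_74 : scanK fC1 295780 300307 = true := by decide +kernel

theorem C1Chk_75 : scanK fC1 300307 306936 = true := by decide +kernel

end Cfsg.Agent.Lib.Helper12.OutFi24
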