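import Cfsg.Agent.Lib.Helper12.OutFi24.Cent1

/-! the images of the first point under the centraliser of the element of order `11`, part 2 (generated, helper12) -/

set_option autoImplicit false
set_option maxRecDepth 1000000

namespace Cfsg.Agent.Lib.Helper12.OutFi24

theorem C1Chk_8 : scanK fC1 35441 39490 = true := by decide +kernel

theorem C1Chk_9 : scanK fC1 39490 45798 = true := by decide +kernel

theorem C1Chk_10 : scanK fC1 45798 48430 = true := by decide +kernel

theorem C1Chk_11 : scanK fC1 48430 55360 = true := by decide +kernel

end Cfsg.Agent.Lib.Helper12.OutFi24
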