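import Cfsg.Agent.Lib.Helper12.OutFi24.Cent1

/-! the images of the first point under the centraliser of the element of order `11`, part 3 (generated, helper12) -/

set_option autoImplicit false
set_option maxRecDepth 1000000

namespace Cfsg.Agent.Lib.Helper12.OutFi24

theorem C1Chk_12 : scanK fC1 55360 59071 = true := by decide +kernel

theorem C1Chk_13 : scanK fC1 59071 61289 = true := by decide +kernel

theorem C1Chk_14 : scanK fC1 61289 67727 = true := by decide +kernel

theorem C1Chk_15 : scanK fC1 67727 72425 = true := by decide +kernel

end Cfsg.Agent.Lib.Helper12.OutFi24
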