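import Cfsg.Agent.Lib.Helper12.OutFi24.Cent1

/-! the images of the first point under the centraliser of the element of order `11`, part 4 (generated, helper12) -/

set_option autoImplicit false
set_option maxRecDepth 1000000

namespace Cfsg.Agent.Lib.Helper12.OutFi24

theorem C1Chk_16 : scanK fC1 72425 74860 = true := by decide +kernel

theorem C1Chk_17 : scanK fC1 74860 79138 = true := by decide +kernel

theorem C1Chk_18 : scanK fC1 79138 85497 = true := by decide +kernel

theorem C1Chk_19 : scanK fC1 85497 88790 = true := by decide +kernel

end Cfsg.Agent.Lib.Helper12.OutFi24
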