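import Cfsg.Agent.Lib.Helper12.OutFi24.Cent1

/-! the images of the first point under the centraliser of the element of order `11`, part 5 (generated, helper12) -/

set_option autoImplicit false
set_option maxRecDepth 1000000

namespace Cfsg.Agent.Lib.Helper12.OutFi24

theorem C1Chk_20 : scanK fC1 88790 91278 = true := by decide +kernel

theorem C1Chk_21 : scanK fC1 91278 95750 = true := by decide +kernel

theorem C1Chk_22 : scanK fC1 95750 101257 = true := by decide +kernel

theorem C1Chk_23 : scanK fC1 101257 105576 = true := by decide +kernel

end Cfsg.Agent.Lib.Helper12.OutFi24
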