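import Cfsg.Agent.Lib.Helper12.OutFi24.Cent1

/-! the images of the first point under the centraliser of the element of order `11`, part 6 (generated, helper12) -/

set_option autoImplicit false
set_option maxRecDepth 1000000

namespace Cfsg.Agent.Lib.Helper12.OutFi24

theorem C1Chk_24 : scanK fC1 105576 108753 = true := by decide +kernel

theorem C1Chk_25 : scanK fC1 108753 111872 = true := by decide +kernel

theorem C1Chk_26 : scanK fC1 111872 118286 = true := by decide +kernel

theorem C1Chk_27 : scanK fC1 118286 122314 = true := by decide +kernel

end Cfsg.Agent.Lib.Helper12.OutFi24
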