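import Cfsg.Agent.Lib.Helper12.OutFi24.Cent1

/-! the images of the first point under the centraliser of the element of order `11`, part 7 (generated, helper12) -/

set_option autoImplicit false
set_option maxRecDepth 1000000

namespace Cfsg.Agent.Lib.Helper12.OutFi24

theorem C1Chk_28 : scanK fC1 122314 126174 = true := by decide +kernel

theorem C1Chk_29 : scanK fC1 126174 129266 = true := by decide +kernel

theorem C1Chk_30 : scanK fC1 129266 133054 = true := by decide +kernel

theorem C1Chk_31 : scanK fC1 133054 139457 = true := by decide +kernel

end Cfsg.Agent.Lib.Helper12.OutFi24
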