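import Cfsg.Agent.Lib.Helper12.OutFi24.Cent1

/-! the images of the first point under the centraliser of the element of order `11`, part 8 (generated, helper12) -/

set_option autoImplicit false
set_option maxRecDepth 1000000

namespace Cfsg.Agent.Lib.Helper12.OutFi24

theorem C1Chk_32 : scanK fC1 139457 143415 = true := by decide +kernel

theorem C1Chk_33 : scanK fC1 143415 148307 = true := by decide +kernel

theorem C1Chk_34 : scanK fC1 148307 151264 = true := by decide +kernel

theorem C1Chk_35 : scanK fC1 151264 156123 = true := by decide +kernel

end Cfsg.Agent.Lib.Helper12.OutFi24
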