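import Cfsg.Agent.Lib.Helper12.OutFi24.Cent1

/-! the images of the first point under the centraliser of the element of order `11`, part 9 (generated, helper12) -/

set_option autoImplicit false
set_option maxRecDepth 1000000

namespace Cfsg.Agent.Lib.Helper12.OutFi24

theorem C1Chk_36 : scanK fC1 156123 162025 = true := by decide +kernel

theorem C1Chk_37 : scanK fC1 162025 165929 = true := by decide +kernel

theorem C1Chk_38 : scanK fC1 165929 170869 = true := by decide +kernel

theorem C1Chk_39 : scanK fC1 170869 174653 = true := by decide +kernel

end Cfsg.Agent.Lib.Helper12.OutFi24
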