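import Cfsg.Agent.Lib.Helper12.OutFi24.C1Chk0
import Cfsg.Agent.Lib.Helper12.OutFi24.C1Chk1
import Cfsg.Agent.Lib.Helper12.OutFi24.C1Chk2
import Cfsg.Agent.Lib.Helper12.OutFi24.C1Chk3
import Cfsg.Agent.Lib.Helper12.OutFi24.C1Chk4
import Cfsg.Agent.Lib.Helper12.OutFi24.C1Chk5
import Cfsg.Agent.Lib.Helper12.OutFi24.C1Chk6
import Cfsg.Agent.Lib.Helper12.OutFi24.C1Chk7
import Cfsg.Agent.Lib.Helper12.OutFi24.C1Chk8
import Cfsg.Agent.Lib.Helper12.OutFi24.C1Chk9
import Cfsg.Agent.Lib.Helper12.OutFi24.C1Chk10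
import Cfsg.Agent.Lib.Helper12.OutFi24.C1Chk11
import Cfsg.Agent.Lib.Helper12.OutFi24.C1Chk12
import Cfsg.Agent.Lib.Helper12.OutFi24.C1Chk13
import Cfsg.Agent.Lib.Helper12.OutFi24.C1Chk14
import Cfsg.Agent.Lib.Helper12.OutFi24.C1Chk15
import Cfsg.Agent.Lib.Helper12.OutFi24.C1Chk16
import Cfsg.Agent.Lib.Helper12.OutFi24.C1Chk17
import Cfsg.Agent.Lib.Helper12.OutFi24.C1Chk18

/-! the images of the first point under the centraliser of the element of order `11`: all points (generated, helper12) -/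

set_option autoImplicit false

namespace Cfsg.Agent.Lib.Helper12.OutFi24

theorem C1Chk_all {p : ℕ} (hp : p < 306936) : fC1 p = true := by
  by_cases h1 : p < 2000
  · exact scanK_spec C1Chk_0 (Nat.zero_le p) h1
  by_cases h2 : p < 4809
  · exact scanK_spec C1Chk_1 (Nat.le_of_not_lt h1) h2
  by_cases h3 : p < 8107
  · exact scanK_spec C1Chk_2 (Nat.le_of_not_lt h2) h3
  by_cases h4 : p < 12424
  · exact scanK_spec C1Chk_3 (Nat.le_of_not_lt h3) h4
  by_cases h5 : p < 17396
  · exact scanK_spec C1Chk_4 (Nat.le_of_not_lt h4) h5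
  by_cases h6 : p < 23279
  · exact scanK_spec C1Chk_5 (Nat.le_of_not_lt h5) h6
  by_cases h7 : p < 28820
  · exact scanK_spec C1Chk_6 (Nat.le_of_not_lt h6) h7
  by_cases h8 : p < 35441
  · exact scanK_spec C1Chk_7 (Nat.le_of_not_lt h7) h8
  by_cases h9 : p < 39490
  · exact scanK_spec C1Chk_8 (Nat.le_of_not_lt h8) h9
  by_cases h10 : p < 45798
  · exact scanK_spec C1Chk_9 (Nat.le_of_not_lt h9) h10
  by_cases h11 : p < 48430
  · exact scanK_spec C1Chk_10 (Nat.le_of_not_lt h10) h11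
  by_cases h12 : p < 55360
  · exact scanK_spec C1Chk_11 (Nat.le_of_not_lt h11) h12
  by_cases h13 : p < 59071
  · exact scanK_spec C1Chk_12 (Nat.le_of_not_lt h12) h13
  by_cases h14 : p < 61289
  · exact scanK_spec C1Chk_13 (Nat.le_of_not_lt h13) h14
  by_cases h15 : p < 67727
  · exact scanK_spec C1Chk_14 (Nat.le_of_not_lt h14) h15
  by_cases h16 : p < 72425
  · exact scanK_spec C1Chk_15 (Nat.le_of_not_lt h15) h16
  by_cases h17 : p < 74860
  · exact scanK_spec C1Chk_16 (Nat.le_of_not_lt h16) h17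
  by_cases h18 : p < 79138
  · exact scanK_spec C1Chk_17 (Nat.le_of_not_lt h17) h18
  by_cases h19 : p < 85497
  · exact scanK_spec C1Chk_18 (Nat.le_of_not_lt h18) h19
  by_cases h20 : p < 88790
  · exact scanK_spec C1Chk_19 (Nat.le_of_not_lt h19) h20
  by_cases h21 : p < 91278
  · exact scanK_spec C1Chk_20 (Nat.le_of_not_lt h20) h21
  by_cases h22 : p < 95750
  · exact scanK_spec C1Chk_21 (Nat.le_of_not_lt h21) h22
  by_cases h23 : p < 101257
  · exact scanK_spec C1Chk_22 (Nat.le_of_not_lt h22) h23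
  by_cases h24 : p < 105576
  · exact scanK_spec C1Chk_23 (Nat.le_of_not_lt h23) h24
  by_cases h25 : p < 108753
  · exact scanK_spec C1Chk_24 (Nat.le_of_not_lt h24) h25
  by_cases h26 : p < 111872
  · exact scanK_spec C1Chk_25 (Nat.le_of_not_lt h25) h26
  by_cases h27 : p < 118286
  · exact scanK_spec C1Chk_26 (Nat.le_of_not_lt h26) h27
  by_cases h28 : p < 122314
  · exact scanK_spec C1Chk_27 (Nat.le_of_not_lt h27) h28
  by_cases h29 : p < 126174
  · exact scanK_spec C1Chk_28 (Nat.le_of_not_lt h28) h29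
  by_cases h30 : p < 129266
  · exact scanK_spec C1Chk_29 (Nat.le_of_not_lt h29) h30
  by_cases h31 : p < 133054
  · exact scanK_spec C1Chk_30 (Nat.le_of_not_lt h30) h31
  by_cases h32 : p < 139457
  · exact scanK_spec C1Chk_31 (Nat.le_of_not_lt h31) h32
  by_cases h33 : p < 143415
  · exact scanK_spec C1Chk_32 (Nat.le_of_not_lt h32) h33
  by_cases h34 : p < 148307
  · exact scanK_spec C1Chk_33 (Nat.le_of_not_lt h33) h34
  by_cases h35 : p < 151264
  · exact scanK_spec C1Chk_34 (Nat.le_of_not_lt h34) h35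
  by_cases h36 : p < 156123
  · exact scanK_spec C1Chk_35 (Nat.le_of_not_lt h35) h36
  by_cases h37 : p < 162025
  · exact scanK_spec C1Chk_36 (Nat.le_of_not_lt h36) h37
  by_cases h38 : p < 165929
  · exact scanK_spec C1Chk_37 (Nat.le_of_not_lt h37) h38
  by_cases h39 : p < 170869
  · exact scanK_spec C1Chk_38 (Nat.le_of_not_lt h38) h39
  by_cases h40 : p < 174653
  · exact scanK_spec C1Chk_39 (Nat.le_of_not_lt h39) h40
  by_cases h41 : p < 179191
  · exact scanK_spec C1Chk_40 (Nat.le_of_not_lt h40) h41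
  by_cases h42 : p < 185196
  · exact scanK_spec C1Chk_41 (Nat.le_of_not_lt h41) h42
  by_cases h43 : p < 187553
  · exact scanK_spec C1Chk_42 (Nat.le_of_not_lt h42) h43
  by_cases h44 : p < 193684
  · exact scanK_spec C1Chk_43 (Nat.le_of_not_lt h43) h44
  by_cases h45 : p < 198285
  · exact scanK_spec C1Chk_44 (Nat.le_of_not_lt h44) h45
  by_cases h46 : p < 202138
  · exact scanK_spec C1Chk_45 (Nat.le_of_not_lt h45) h46
  by_cases h47 : p < 207104
  · exact scanK_spec C1Chk_46 (Nat.le_of_not_lt h46) h47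
  by_cases h48 : p < 210653
  · exact scanK_spec C1Chk_47 (Nat.le_of_not_lt h47) h48
  by_cases h49 : p < 214189
  · exact scanK_spec C1Chk_48 (Nat.le_of_not_lt h48) h49
  by_cases h50 : p < 219168
  · exact scanK_spec C1Chk_49 (Nat.le_of_not_lt h49) h50
  by_cases h51 : p < 223135
  · exact scanK_spec C1Chk_50 (Nat.le_of_not_lt h50) h51
  by_cases h52 : p < 226336
  · exact scanK_spec C1Chk_51 (Nat.le_of_not_lt h51) h52
  by_cases h53 : p < 230825
  · exact scanK_spec C1Chk_52 (Nat.le_of_not_lt h52) h53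
  by_cases h54 : p < 233632
  · exact scanK_spec C1Chk_53 (Nat.le_of_not_lt h53) h54
  by_cases h55 : p < 237306
  · exact scanK_spec C1Chk_54 (Nat.le_of_not_lt h54) h55
  by_cases h56 : p < 241570
  · exact scanK_spec C1Chk_55 (Nat.le_of_not_lt h55) h56
  by_cases h57 : p < 245096
  · exact scanK_spec C1Chk_56 (Nat.le_of_not_lt h56) h57
  by_cases h58 : p < 248324
  · exact scanK_spec C1Chk_57 (Nat.le_of_not_lt h57) h58
  by_cases h59 : p < 251185
  · exact scanK_spec C1Chk_58 (Nat.le_of_not_lt h58) h59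
  by_cases h60 : p < 254136
  · exact scanK_spec C1Chk_59 (Nat.le_of_not_lt h59) h60
  by_cases h61 : p < 257479
  · exact scanK_spec C1Chk_60 (Nat.le_of_not_lt h60) h61
  by_cases h62 : p < 260301
  · exact scanK_spec C1Chk_61 (Nat.le_of_not_lt h61) h62
  by_cases h63 : p < 262653
  · exact scanK_spec C1Chk_62 (Nat.le_of_not_lt h62) h63
  by_cases h64 : p < 265412
  · exact scanK_spec C1Chk_63 (Nat.le_of_not_lt h63) h64
  by_cases h65 : p < 267770
  · exact scanK_spec C1Chk_64 (Nat.le_of_not_lt h64) h65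
  by_cases h66 : p < 270426
  · exact scanK_spec C1Chk_65 (Nat.le_of_not_lt h65) h66
  by_cases h67 : p < 272730
  · exact scanK_spec C1Chk_66 (Nat.le_of_not_lt h66) h67
  by_cases h68 : p < 275238
  · exact scanK_spec C1Chk_67 (Nat.le_of_not_lt h67) h68
  by_cases h69 : p < 277010
  · exact scanK_spec C1Chk_68 (Nat.le_of_not_lt h68) h69
  by_cases h70 : p < 280202
  · exact scanK_spec C1Chk_69 (Nat.le_of_not_lt h69) h70
  by_cases h71 : p < 285602
  · exact scanK_spec C1Chk_70 (Nat.le_of_not_lt h70) h71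
  by_cases h72 : p < 289489
  · exact scanK_spec C1Chk_71 (Nat.le_of_not_lt h71) h72
  by_cases h73 : p < 292732
  · exact scanK_spec C1Chk_72 (Nat.le_of_not_lt h72) h73
  by_cases h74 : p < 295780
  · exact scanK_spec C1Chk_73 (Nat.le_of_not_lt h73) h74
  by_cases h75 : p < 300307
  · exact scanK_spec C1Chk_74 (Nat.le_of_not_lt h74) h75
  by_cases h76 : p < 306936
  · exact scanK_spec C1Chk_75 (Nat.le_of_not_lt h75) h76
  exact absurd hp h76

end Cfsg.Agent.Lib.Helper12.OutFi24
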