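import Cfsg.Agent.Lib.Helper12.OutFi24.Fact

/-!
The centralisers of elements of the presented group Fi24 in the commutator subgroup, and the property of a triple of
commuting transpositions: the centraliser of the first is generated by the commutator subgroups of the centralisers
of its products with the other two (helper12).
-/

set_option autoImplicit false
set_option maxRecDepth 100000

namespace Cfsg.Agent.Lib.Helper12.OutFi24

open Cfsg.Spor Cfsg.Agent.Lib.Helper12.TC Cfsg.Agent.Lib.Helper12.TCG Cfsg.Agent.Lib.Helper12.TCG.Fi24Pres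
  Cfsg.Agent.Lib.Helper12.TCG.Fi24x306936 Cfsg.Agent.Lib.Helper12.Ord Cfsg.Agent.Lib.Helper12.Fi24
  Cfsg.Agent.Lib.Helper12.Fi24Ex

open scoped commutatorElement

/-- the centraliser of an element in the commutator subgroup -/
noncomputable def CG (x : Fi24) : Subgroup Fi24 := Subgroup.centralizer {x} ⊓ commutator Fi24

theorem mem_CG {x y : Fi24} : y ∈ CG x ↔ Commute y x ∧ y ∈ commutator Fi24 := by
  unfold CG
  rw [Subgroup.mem_inf, Subgroup.mem_centralizer_singleton_iff]
  constructor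
  · rintro ⟨h1, h2⟩
    exact ⟨h1, h2⟩
  · rintro ⟨h1, h2⟩
    exact ⟨h1.eq, h2⟩

theorem CG_le (x : Fi24) : CG x ≤ commutator Fi24 := inf_le_right

theorem conj_mem_comm {y : Fi24} (hy : y ∈ commutator Fi24) (c : Fi24) : c * y * c⁻¹ ∈ commutator Fi24 :=
  (inferInstance : (commutator Fi24).Normal).conj_mem y hy c

/-- the conjugates of the centralisers -/
theorem CG_conj (c x : Fi24) : (CG x).map (MulAut.conj c).toMonoidHom = CG (c * x * c⁻¹) := by
  ext y
  rw [Subgroup.mem_map, mem_CG]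
  constructor
  · rintro ⟨w, hw, rfl⟩
    obtain ⟨h1, h2⟩ := mem_CG.mp hw
    refine ⟨?_, conj_mem_comm h2 c⟩
    show (c * w * c⁻¹) * (c * x * c⁻¹) = (c * x * c⁻¹) * (c * w * c⁻¹)
    exact (conj_comm_iff c w x).mpr h1.eq
  · rintro ⟨h1, h2⟩
    refine ⟨c⁻¹ * y * c, mem_CG.mpr ⟨?_, ?_⟩, ?_⟩
    · show (c⁻¹ * y * c) * x = x * (c⁻¹ * y * c)
      have e1 : (c⁻¹ * y * c) * x = c⁻¹ * (y * (c * x * c⁻¹)) * c := by group
      have e2 : x * (c⁻¹ * y * c) = c⁻¹ * ((c * x * c⁻¹) * y) * c := by group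
      rw [e1, e2, h1.eq]
    · have := conj_mem_comm h2 c⁻¹
      rw [inv_inv] at this
      exact this
    · show c * (c⁻¹ * y * c) * c⁻¹ = y
      group

/-- the property of a triple of transpositions -/
def PB (t t' t'' : Fi24) : Prop :=
  CG t = ⁅CG (t * t'), CG (t * t')⁆ ⊔ ⁅CG (t * t''), CG (t * t'')⁆

theorem PB_symm {t t' t'' : Fi24} (h : PB t t' t'') : PB t t'' t' := by
  unfold PB at h ⊢
  rw [h, sup_comm]

theorem PB_conj {t t' t'' : Fi24} (h : PB t t' t'') (c : Fi24) :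
    PB (c * t * c⁻¹) (c * t' * c⁻¹) (c * t'' * c⁻¹) := by
  unfold PB at h ⊢
  have e : ∀ a b : Fi24, (c * a * c⁻¹) * (c * b * c⁻¹) = c * (a * b) * c⁻¹ := by intro a b; group
  rw [e, e, ← CG_conj, ← CG_conj, ← CG_conj, h, Subgroup.map_sup, Subgroup.map_commutator, Subgroup.map_commutator]

/-- an element of a subgroup with trivial image in the quotient by the commutator subgroup -/
theorem mem_comm_of_abel {Q : Subgroup Fi24} {x : Fi24} (hx : x ∈ Q)
    (h : Abelianization.of (⟨x, hx⟩ : Q) = 1) : x ∈ ⁅Q, Q⁆ := by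
  have h1 : (⟨x, hx⟩ : Q) ∈ (Abelianization.of (G := Q)).ker := MonoidHom.mem_ker.mpr h
  rw [Abelianization.ker_of] at h1
  rw [← Subgroup.map_subtype_commutator]
  exact ⟨⟨x, hx⟩, h1, rfl⟩

end Cfsg.Agent.Lib.Helper12.OutFi24
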