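import Cfsg.Agent.Lib.Helper12.OutFi24.S0

/-!
The centraliser of the element of order `11` of the presented group Fi24: the images of the first point under the
elements which commute with the element and with the generator `i` (helper12).
-/

set_option autoImplicit false
set_option maxRecDepth 100000

namespace Cfsg.Agent.Lib.Helper12.OutFi24

open Cfsg.Spor Cfsg.Agent.Lib.Helper12.TC Cfsg.Agent.Lib.Helper12.TCG Cfsg.Agent.Lib.Helper12.TCG.Fi24Pres
  Cfsg.Agent.Lib.Helper12.TCG.Fi24x306936 Cfsg.Agent.Lib.Helper12.Ord Cfsg.Agent.Lib.Helper12.Fi24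
  Cfsg.Agent.Lib.Helper12.Fi24Ex

/-- the test of two points: `0` if the walk fails, `1` if the transpositions commute, `2` if they do not commute -/
noncomputable def cbit (p q : ℕ) : ℕ :=
  forceN (walkQ 64 p q) (fun r => cond (Nat.beq r 0) 0
    (cond (Nat.beq (TT 0 (Nat.pred r)) (Nat.pred r)) 1 2))

theorem cbit_zero (p q : ℕ) (hw : walkQ 64 p q = 0) : cbit p q = 0 := by
  unfold cbit
  rw [forceN_eq, hw]
  rfl

theorem cbit_succ (p q r : ℕ) (hw : walkQ 64 p q = Nat.succ r) :
    cbit p q = cond (Nat.beq (TT 0 r) r) 1 2 := by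
  unfold cbit
  rw [forceN_eq, hw]
  rfl

theorem cbit_cases (p q : ℕ) : cbit p q = 0 ∨
    (∃ r, walkQ 64 p q = Nat.succ r ∧ ((cbit p q = 1 ∧ TT 0 r = r) ∨ (cbit p q = 2 ∧ TT 0 r ≠ r))) := by
  cases hw : walkQ 64 p q with
  | zero => left; exact cbit_zero p q hw
  | succ r =>
    right
    refine ⟨r, rfl, ?_⟩
    rw [cbit_succ p q r hw]
    cases hb : Nat.beq (TT 0 r) r with
    | true => left; exact ⟨rfl, Nat.eq_of_beq_eq_true hb⟩
    | false =>
      right
      refine ⟨rfl, ?_⟩
      intro h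
      rw [h, Nat.beq_refl] at hb
      exact Bool.noConfusion hb

theorem cbit_one {e e' : Fi24} {p q : ℕ} (he : IsT e p) (he' : IsT e' q) (h : cbit p q = 1) :
    e * e' = e' * e := by
  rcases cbit_cases p q with h0 | ⟨r, hw, ⟨_, h2⟩ | ⟨h1, _⟩⟩
  · rw [h0] at h; exact absurd h (by norm_num)
  · exact (comm_of_walk 64 he he' hw).mpr h2
  · rw [h1] at h; exact absurd h (by norm_num)

theorem cbit_two {e e' : Fi24} {p q : ℕ} (he : IsT e p) (he' : IsT e' q) (h : cbit p q = 2) :
    e * e' ≠ e' * e := by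
  rcases cbit_cases p q with h0 | ⟨r, hw, ⟨h1, _⟩ | ⟨_, h2⟩⟩
  · rw [h0] at h; exact absurd h (by norm_num)
  · rw [h1] at h; exact absurd h (by norm_num)
  · intro hc
    exact h2 ((comm_of_walk 64 he he' hw).mp hc)

/-- the test of a point: `true` if the point is not the image of the first point -/
noncomputable def st1 (p : ℕ) : Bool :=
  forceN (Fn.applyW TT s0w p) fun q1 => forceN (Fn.applyW TT s0w q1) fun q2 =>
   cond (Nat.beq (cbit p q2) 2) true
    (forceN (Fn.applyW TT s0w q2) fun q3 => cond (Nat.beq (cbit p q3) 2) true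
     (forceN (Fn.applyW TT s0w q3) fun q4 => cond (Nat.beq (cbit p q4) 2) true
      (forceN (Fn.applyW TT s0w q4) fun q5 => cond (Nat.beq (cbit p q5) 2) true
        (Nat.beq (cbit p q1) 1))))

theorem st1_eq (p : ℕ) : st1 p =
    cond (Nat.beq (cbit p (Fn.applyW TT s0w (Fn.applyW TT s0w p))) 2) true
    (cond (Nat.beq (cbit p (Fn.applyW TT s0w (Fn.applyW TT s0w (Fn.applyW TT s0w p)))) 2) true
     (cond (Nat.beq (cbit p (Fn.applyW TT s0w (Fn.applyW TT s0w (Fn.applyW TT s0w (Fn.applyW TT s0w p))))) 2) true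
      (cond (Nat.beq (cbit p (Fn.applyW TT s0w (Fn.applyW TT s0w (Fn.applyW TT s0w (Fn.applyW TT s0w
        (Fn.applyW TT s0w p)))))) 2) true
        (Nat.beq (cbit p (Fn.applyW TT s0w p)) 1)))) := by
  unfold st1
  simp only [forceN_eq]

/-- the transposition `e` and its conjugates under the element: if `e` commutes with the conjugates under the powers
`2`, `3`, `4`, `5` and not with the conjugate under the element then the test is `false` -/
theorem st1_false {e : Fi24} {p : ℕ} (he : IsT e p)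
    (h1 : e * (s0 * e * s0⁻¹) ≠ s0 * e * s0⁻¹ * e)
    (h2 : e * (s0 * (s0 * e * s0⁻¹) * s0⁻¹) = s0 * (s0 * e * s0⁻¹) * s0⁻¹ * e)
    (h3 : e * (s0 * (s0 * (s0 * e * s0⁻¹) * s0⁻¹) * s0⁻¹) = s0 * (s0 * (s0 * e * s0⁻¹) * s0⁻¹) * s0⁻¹ * e)
    (h4 : e * (s0 * (s0 * (s0 * (s0 * e * s0⁻¹) * s0⁻¹) * s0⁻¹) * s0⁻¹) =
      s0 * (s0 * (s0 * (s0 * e * s0⁻¹) * s0⁻¹) * s0⁻¹) * s0⁻¹ * e)
    (h5 : e * (s0 * (s0 * (s0 * (s0 * (s0 * e * s0⁻¹) * s0⁻¹) * s0⁻¹) * s0⁻¹) * s0⁻¹) =
      s0 * (s0 * (s0 * (s0 * (s0 * e * s0⁻¹) * s0⁻¹) * s0⁻¹) * s0⁻¹) * s0⁻¹ * e) : st1 p = false := by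
  have hp := isT_lt he
  have t1 := isT_conj he s0
  rw [act_s0 hp] at t1
  have t2 := isT_conj t1 s0
  rw [act_s0 (isT_lt t1)] at t2
  have t3 := isT_conj t2 s0
  rw [act_s0 (isT_lt t2)] at t3
  have t4 := isT_conj t3 s0
  rw [act_s0 (isT_lt t3)] at t4
  have t5 := isT_conj t4 s0
  rw [act_s0 (isT_lt t4)] at t5
  rw [st1_eq]
  have k2 : Nat.beq (cbit p (Fn.applyW TT s0w (Fn.applyW TT s0w p))) 2 = false := by
    cases hb : Nat.beq (cbit p (Fn.applyW TT s0w (Fn.applyW TT s0w p))) 2 with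
    | false => rfl
    | true => exact absurd h2 (cbit_two he t2 (Nat.eq_of_beq_eq_true hb))
  have k3 : Nat.beq (cbit p (Fn.applyW TT s0w (Fn.applyW TT s0w (Fn.applyW TT s0w p)))) 2 = false := by
    cases hb : Nat.beq (cbit p (Fn.applyW TT s0w (Fn.applyW TT s0w (Fn.applyW TT s0w p)))) 2 with
    | false => rfl
    | true => exact absurd h3 (cbit_two he t3 (Nat.eq_of_beq_eq_true hb))
  have k4 : Nat.beq (cbit p (Fn.applyW TT s0w (Fn.applyW TT s0w (Fn.applyW TT s0w
      (Fn.applyW TT s0w p))))) 2 = false := by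
    cases hb : Nat.beq (cbit p (Fn.applyW TT s0w (Fn.applyW TT s0w (Fn.applyW TT s0w
      (Fn.applyW TT s0w p))))) 2 with
    | false => rfl
    | true => exact absurd h4 (cbit_two he t4 (Nat.eq_of_beq_eq_true hb))
  have k5 : Nat.beq (cbit p (Fn.applyW TT s0w (Fn.applyW TT s0w (Fn.applyW TT s0w (Fn.applyW TT s0w
      (Fn.applyW TT s0w p)))))) 2 = false := by
    cases hb : Nat.beq (cbit p (Fn.applyW TT s0w (Fn.applyW TT s0w (Fn.applyW TT s0w (Fn.applyW TT s0w
      (Fn.applyW TT s0w p)))))) 2 with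
    | false => rfl
    | true => exact absurd h5 (cbit_two he t5 (Nat.eq_of_beq_eq_true hb))
  have k1 : Nat.beq (cbit p (Fn.applyW TT s0w p)) 1 = false := by
    cases hb : Nat.beq (cbit p (Fn.applyW TT s0w p)) 1 with
    | false => rfl
    | true => exact absurd (cbit_one he t1 (Nat.eq_of_beq_eq_true hb)) h1
  rw [k2, k3, k4, k5, k1]
  rfl

/-- the images of the first point under the products of the powers of the element and the two transpositions -/
def L44 : List ℕ := [0, 216689, 248861, 296831, 3, 182708, 265940, 87942, 275286, 221160, 235480, 109108, 275282, 225499, 264737, 86922, 275279, 176655, 235479, 27786, 275278, 225500, 264738, 163408, 275306, 225493, 235478, 223365, 275360, 176658, 264739, 243587, 275446, 225496, 242443, 91709, 275581, 216701, 249683, 77099, 26, 262658, 195633, 185365]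

/-- the test of a point: the point is moved by the generator `i`, or it is not the image of the first point, or it
is in the list -/
noncomputable def fC1 (p : ℕ) : Bool := !(Nat.beq (TT 11 p) p) || (st1 p || memK L44 p)

theorem fC1_spec {p : ℕ} (h : fC1 p = true) (h11 : TT 11 p = p) (hst : st1 p = false) : p ∈ L44 := by
  unfold fC1 at h
  rw [Bool.or_eq_true, Bool.or_eq_true] at h
  rcases h with h | h | h
  · rw [h11, Nat.beq_refl] at h
    exact Bool.noConfusion h
  · rw [hst] at h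
    exact Bool.noConfusion h
  · exact (memK_iff L44 p).mp h

end Cfsg.Agent.Lib.Helper12.OutFi24
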