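import Cfsg.Agent.Lib.Helper12.OutFi24.F6Chk0
import Cfsg.Agent.Lib.Helper12.OutFi24.F6Chk1

/-! the points fixed by nine generators and moved by two: all points (generated, helper12) -/

set_option autoImplicit false

namespace Cfsg.Agent.Lib.Helper12.OutFi24

theorem F6Chk_all {p : ℕ} (hp : p < 306936) : fF6 p = true := by
  by_cases h1 : p < 44999
  · exact scanK_spec F6Chk_0 (Nat.zero_le p) h1
  by_cases h2 : p < 89999
  · exact scanK_spec F6Chk_1 (Nat.le_of_not_lt h1) h2
  by_cases h3 : p < 134999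
  · exact scanK_spec F6Chk_2 (Nat.le_of_not_lt h2) h3
  by_cases h4 : p < 179999
  · exact scanK_spec F6Chk_3 (Nat.le_of_not_lt h3) h4
  by_cases h5 : p < 224999
  · exact scanK_spec F6Chk_4 (Nat.le_of_not_lt h4) h5
  by_cases h6 : p < 269999
  · exact scanK_spec F6Chk_5 (Nat.le_of_not_lt h5) h6
  by_cases h7 : p < 301299
  · exact scanK_spec F6Chk_6 (Nat.le_of_not_lt h6) h7
  by_cases h8 : p < 306936
  · exact scanK_spec F6Chk_7 (Nat.le_of_not_lt h7) h8
  exact absurd hp h8

end Cfsg.Agent.Lib.Helper12.OutFi24
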