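import Cfsg.Agent.Lib.Helper12.OutFi24.Scan

/-! the fixed points of the element of order `11`, part 2 (generated, helper12) -/

set_option autoImplicit false
set_option maxRecDepth 1000000

namespace Cfsg.Agent.Lib.Helper12.OutFi24

theorem S0Chk_8 : scanK fS0 65448 73629 = true := by decide +kernel

theorem S0Chk_9 : scanK fS0 73629 81810 = true := by decide +kernel

theorem S0Chk_10 : scanK fS0 81810 89991 = true := by decide +kernel

theorem S0Chk_11 : scanK fS0 89991 98172 = true := by decide +kernel

end Cfsg.Agent.Lib.Helper12.OutFi24
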