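import Cfsg.Agent.Lib.Helper12.OutFi24.Scan

/-! the fixed points of the element of order `11`, part 3 (generated, helper12) -/

set_option autoImplicit false
set_option maxRecDepth 1000000

namespace Cfsg.Agent.Lib.Helper12.OutFi24

theorem S0Chk_12 : scanK fS0 98172 106353 = true := by decide +kernel

theorem S0Chk_13 : scanK fS0 106353 114534 = true := by decide +kernel

theorem S0Chk_14 : scanK fS0 114534 122715 = true := by decide +kernel

theorem S0Chk_15 : scanK fS0 122715 130896 = true := by decide +kernel

end Cfsg.Agent.Lib.Helper12.OutFi24
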