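import Cfsg.Agent.Lib.Helper12.OutFi24.Scan

/-! the fixed points of the element of order `11`, part 4 (generated, helper12) -/

set_option autoImplicit false
set_option maxRecDepth 1000000

namespace Cfsg.Agent.Lib.Helper12.OutFi24

theorem S0Chk_16 : scanK fS0 130896 139077 = true := by decide +kernel

theorem S0Chk_17 : scanK fS0 139077 147258 = true := by decide +kernel

theorem S0Chk_18 : scanK fS0 147258 155439 = true := by decide +kernel

theorem S0Chk_19 : scanK fS0 155439 163620 = true := by decide +kernel

end Cfsg.Agent.Lib.Helper12.OutFi24
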