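import Cfsg.Agent.Lib.Helper12.OutFi24.Scan

/-! the fixed points of the element of order `11`, part 5 (generated, helper12) -/

set_option autoImplicit false
set_option maxRecDepth 1000000

namespace Cfsg.Agent.Lib.Helper12.OutFi24

theorem S0Chk_20 : scanK fS0 163620 171801 = true := by decide +kernel

theorem S0Chk_21 : scanK fS0 171801 179982 = true := by decide +kernel

theorem S0Chk_22 : scanK fS0 179982 188163 = true := by decide +kernel

theorem S0Chk_23 : scanK fS0 188163 196344 = true := by decide +kernel

end Cfsg.Agent.Lib.Helper12.OutFi24
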