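import Cfsg.Agent.Lib.Helper12.OutFi24.Scan

/-! the fixed points of the element of order `11`, part 6 (generated, helper12) -/

set_option autoImplicit false
set_option maxRecDepth 1000000

namespace Cfsg.Agent.Lib.Helper12.OutFi24

theorem S0Chk_24 : scanK fS0 196344 204525 = true := by decide +kernel

theorem S0Chk_25 : scanK fS0 204525 212706 = true := by decide +kernel

theorem S0Chk_26 : scanK fS0 212706 220887 = true := by decide +kernel

theorem S0Chk_27 : scanK fS0 220887 229068 = true := by decide +kernel

end Cfsg.Agent.Lib.Helper12.OutFi24
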