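import Cfsg.Agent.Lib.Helper12.OutFi24.Scan

/-! the fixed points of the element of order `11`, part 7 (generated, helper12) -/

set_option autoImplicit false
set_option maxRecDepth 1000000

namespace Cfsg.Agent.Lib.Helper12.OutFi24

theorem S0Chk_28 : scanK fS0 229068 237249 = true := by decide +kernel

theorem S0Chk_29 : scanK fS0 237249 245430 = true := by decide +kernel

theorem S0Chk_30 : scanK fS0 245430 253611 = true := by decide +kernel

theorem S0Chk_31 : scanK fS0 253611 261792 = true := by decide +kernel

end Cfsg.Agent.Lib.Helper12.OutFi24
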