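import Cfsg.Agent.Lib.Helper12.OutFi24.Scan

/-! the fixed points of the element of order `11`, part 8 (generated, helper12) -/

set_option autoImplicit false
set_option maxRecDepth 1000000

namespace Cfsg.Agent.Lib.Helper12.OutFi24

theorem S0Chk_32 : scanK fS0 261792 269973 = true := by decide +kernel

theorem S0Chk_33 : scanK fS0 269973 278154 = true := by decide +kernel

theorem S0Chk_34 : scanK fS0 278154 286335 = true := by decide +kernel

theorem S0Chk_35 : scanK fS0 286335 294516 = true := by decide +kernel

end Cfsg.Agent.Lib.Helper12.OutFi24
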