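import Cfsg.Agent.Lib.Helper12.OutFi24.S0Chk0
import Cfsg.Agent.Lib.Helper12.OutFi24.S0Chk1
import Cfsg.Agent.Lib.Helper12.OutFi24.S0Chk2
import Cfsg.Agent.Lib.Helper12.OutFi24.S0Chk3
import Cfsg.Agent.Lib.Helper12.OutFi24.S0Chk4
import Cfsg.Agent.Lib.Helper12.OutFi24.S0Chk5
import Cfsg.Agent.Lib.Helper12.OutFi24.S0Chk6
import Cfsg.Agent.Lib.Helper12.OutFi24.S0Chk7
import Cfsg.Agent.Lib.Helper12.OutFi24.S0Chk8
import Cfsg.Agent.Lib.Helper12.OutFi24.S0Chk9

/-! the fixed points of the element of order `11`: all points (generated, helper12) -/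

set_option autoImplicit false

namespace Cfsg.Agent.Lib.Helper12.OutFi24

theorem S0Chk_all {p : ℕ} (hp : p < 306936) : fS0 p = true := by
  by_cases h1 : p < 8181
  · exact scanK_spec S0Chk_0 (Nat.zero_le p) h1
  by_cases h2 : p < 16362
  · exact scanK_spec S0Chk_1 (Nat.le_of_not_lt h1) h2
  by_cases h3 : p < 24543
  · exact scanK_spec S0Chk_2 (Nat.le_of_not_lt h2) h3
  by_cases h4 : p < 32724
  · exact scanK_spec S0Chk_3 (Nat.le_of_not_lt h3) h4
  by_cases h5 : p < 40905
  · exact scanK_spec S0Chk_4 (Nat.le_of_not_lt h4) h5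
  by_cases h6 : p < 49086
  · exact scanK_spec S0Chk_5 (Nat.le_of_not_lt h5) h6
  by_cases h7 : p < 57267
  · exact scanK_spec S0Chk_6 (Nat.le_of_not_lt h6) h7
  by_cases h8 : p < 65448
  · exact scanK_spec S0Chk_7 (Nat.le_of_not_lt h7) h8
  by_cases h9 : p < 73629
  · exact scanK_spec S0Chk_8 (Nat.le_of_not_lt h8) h9
  by_cases h10 : p < 81810
  · exact scanK_spec S0Chk_9 (Nat.le_of_not_lt h9) h10
  by_cases h11 : p < 89991
  · exact scanK_spec S0Chk_10 (Nat.le_of_not_lt h10) h11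
  by_cases h12 : p < 98172
  · exact scanK_spec S0Chk_11 (Nat.le_of_not_lt h11) h12
  by_cases h13 : p < 106353
  · exact scanK_spec S0Chk_12 (Nat.le_of_not_lt h12) h13
  by_cases h14 : p < 114534
  · exact scanK_spec S0Chk_13 (Nat.le_of_not_lt h13) h14
  by_cases h15 : p < 122715
  · exact scanK_spec S0Chk_14 (Nat.le_of_not_lt h14) h15
  by_cases h16 : p < 130896
  · exact scanK_spec S0Chk_15 (Nat.le_of_not_lt h15) h16
  by_cases h17 : p < 139077
  · exact scanK_spec S0Chk_16 (Nat.le_of_not_lt h16) h17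
  by_cases h18 : p < 147258
  · exact scanK_spec S0Chk_17 (Nat.le_of_not_lt h17) h18
  by_cases h19 : p < 155439
  · exact scanK_spec S0Chk_18 (Nat.le_of_not_lt h18) h19
  by_cases h20 : p < 163620
  · exact scanK_spec S0Chk_19 (Nat.le_of_not_lt h19) h20
  by_cases h21 : p < 171801
  · exact scanK_spec S0Chk_20 (Nat.le_of_not_lt h20) h21
  by_cases h22 : p < 179982
  · exact scanK_spec S0Chk_21 (Nat.le_of_not_lt h21) h22
  by_cases h23 : p < 188163
  · exact scanK_spec S0Chk_22 (Nat.le_of_not_lt h22) h23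
  by_cases h24 : p < 196344
  · exact scanK_spec S0Chk_23 (Nat.le_of_not_lt h23) h24
  by_cases h25 : p < 204525
  · exact scanK_spec S0Chk_24 (Nat.le_of_not_lt h24) h25
  by_cases h26 : p < 212706
  · exact scanK_spec S0Chk_25 (Nat.le_of_not_lt h25) h26
  by_cases h27 : p < 220887
  · exact scanK_spec S0Chk_26 (Nat.le_of_not_lt h26) h27
  by_cases h28 : p < 229068
  · exact scanK_spec S0Chk_27 (Nat.le_of_not_lt h27) h28
  by_cases h29 : p < 237249
  · exact scanK_spec S0Chk_28 (Nat.le_of_not_lt h28) h29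
  by_cases h30 : p < 245430
  · exact scanK_spec S0Chk_29 (Nat.le_of_not_lt h29) h30
  by_cases h31 : p < 253611
  · exact scanK_spec S0Chk_30 (Nat.le_of_not_lt h30) h31
  by_cases h32 : p < 261792
  · exact scanK_spec S0Chk_31 (Nat.le_of_not_lt h31) h32
  by_cases h33 : p < 269973
  · exact scanK_spec S0Chk_32 (Nat.le_of_not_lt h32) h33
  by_cases h34 : p < 278154
  · exact scanK_spec S0Chk_33 (Nat.le_of_not_lt h33) h34
  by_cases h35 : p < 286335
  · exact scanK_spec S0Chk_34 (Nat.le_of_not_lt h34) h35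
  by_cases h36 : p < 294516
  · exact scanK_spec S0Chk_35 (Nat.le_of_not_lt h35) h36
  by_cases h37 : p < 302697
  · exact scanK_spec S0Chk_36 (Nat.le_of_not_lt h36) h37
  by_cases h38 : p < 306936
  · exact scanK_spec S0Chk_37 (Nat.le_of_not_lt h37) h38
  exact absurd hp h38

end Cfsg.Agent.Lib.Helper12.OutFi24
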