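import Cfsg.Agent.Lib.Helper12.OutFi24.C1ChkAll
import Cfsg.Agent.Lib.Helper12.OutFi24.F6ChkAll
import Cfsg.Agent.Lib.Helper12.OutFi24.S0ChkAll

/-!
The centraliser of the element of order `11` of the presented group Fi24: the elements which commute with the element
and with the generator `i` (helper12).
-/

set_option autoImplicit false
set_option maxRecDepth 100000

namespace Cfsg.Agent.Lib.Helper12.OutFi24

open Cfsg.Spor Cfsg.Agent.Lib.Helper12.TC Cfsg.Agent.Lib.Helper12.TCG Cfsg.Agent.Lib.Helper12.TCG.Fi24Pres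
  Cfsg.Agent.Lib.Helper12.TCG.Fi24x306936 Cfsg.Agent.Lib.Helper12.Ord Cfsg.Agent.Lib.Helper12.Fi24
  Cfsg.Agent.Lib.Helper12.Fi24Ex

/-- two words with the same action on the points of the generators are the same element -/
theorem word_eq (w w' : List ℕ) (hw : ∀ s ∈ w, s < 12) (hw' : ∀ s ∈ w', s < 12)
    (h : ∀ k < 12, Fn.applyW TT (w ++ w'.reverse) (qpts.getD k 0) = qpts.getD k 0) :
    wprod uu w = wprod uu w' := by
  have h1 : wprod uu (w ++ w'.reverse) = 1 := by
    apply word_trivial' _ _ h
    intro s hs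
    rw [List.mem_append, List.mem_reverse] at hs
    rcases hs with hs | hs
    · exact hw s hs
    · exact hw' s hs
  rw [wprod_append, wprod_reverse] at h1
  exact mul_inv_eq_one.mp h1

/-- conjugation and commuting -/
theorem conj_comm_iff (c a b : Fi24) :
    (c * a * c⁻¹) * (c * b * c⁻¹) = (c * b * c⁻¹) * (c * a * c⁻¹) ↔ a * b = b * a := by
  constructor
  · intro h
    have e1 : a * b = c⁻¹ * ((c * a * c⁻¹) * (c * b * c⁻¹)) * c := by group
    have e2 : b * a = c⁻¹ * ((c * b * c⁻¹) * (c * a * c⁻¹)) * c := by group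
    rw [e1, e2, h]
  · intro h
    have e1 : (c * a * c⁻¹) * (c * b * c⁻¹) = c * (a * b) * c⁻¹ := by group
    have e2 : (c * b * c⁻¹) * (c * a * c⁻¹) = c * (b * a) * c⁻¹ := by group
    rw [e1, e2, h]

theorem conj_conj_of_commute {c s : Fi24} (h : Commute c s) (x : Fi24) :
    s * (c * x * c⁻¹) * s⁻¹ = c * (s * x * s⁻¹) * c⁻¹ := by
  have e1 : s * (c * x * c⁻¹) * s⁻¹ = (s * c) * x * (s * c)⁻¹ := by group
  have e2 : c * (s * x * s⁻¹) * c⁻¹ = (c * s) * x * (c * s)⁻¹ := by group
  rw [e1, e2, h.eq]

/-- the pairs of generators which do not commute -/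
def adjB (a b : ℕ) : Bool :=
  (Nat.beq (a + 1) b && Nat.ble b 9) || (Nat.beq (b + 1) a && Nat.ble a 9) ||
    (Nat.beq a 5 && Nat.beq b 10) || (Nat.beq a 10 && Nat.beq b 5) ||
    (Nat.beq a 10 && Nat.beq b 11) || (Nat.beq a 11 && Nat.beq b 10)

theorem comm_tab : ∀ a < 12, ∀ b < 12, Nat.beq (TT a (qp b)) (qp b) = !(adjB a b) := by decide +kernel

theorem uu_comm_iff {a b : ℕ} (ha : a < 12) (hb : b < 12) : uu a * uu b = uu b * uu a ↔ adjB a b = false := by
  rw [comm_iff (isT_gen hb), act_uu ha (qp_lt b hb)]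
  have h := comm_tab a ha b hb
  constructor
  · intro h1
    rw [h1, Nat.beq_refl] at h
    cases hb' : adjB a b with
    | false => rfl
    | true => rw [hb'] at h; exact Bool.noConfusion h
  · intro h1
    rw [h1] at h
    exact Nat.eq_of_beq_eq_true h

theorem uu_comm {a b : ℕ} (ha : a < 12) (hb : b < 12) (h : adjB a b = false) : Commute (uu a) (uu b) :=
  (uu_comm_iff ha hb).mpr h

theorem uu_not_comm {a b : ℕ} (ha : a < 12) (hb : b < 12) (h : adjB a b = true) :
    uu a * uu b ≠ uu b * uu a := by
  intro hc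
  rw [(uu_comm_iff ha hb).mp hc] at h
  exact Bool.noConfusion h

theorem uu_zero : uu 0 = tt := by
  rw [uu_gen (by norm_num : 0 < 12)]
  rfl

/-- the element of order `11` maps each generator of the long arm to the next generator -/
theorem s0_conj_chk : ∀ k < 9, ∀ j < 12,
    Fn.applyW TT ((s0w ++ k :: s0w.reverse) ++ [k + 1].reverse) (qpts.getD j 0) = qpts.getD j 0 := by
  decide +kernel

theorem s0_conj {k : ℕ} (hk : k < 9) : s0 * uu k * s0⁻¹ = uu (k + 1) := by
  have h := word_eq (s0w ++ k :: s0w.reverse) [k + 1] ?_ ?_ (s0_conj_chk k hk)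
  · rw [wprod_append, wprod_cons, wprod_reverse, wprod_cons, wprod_nil, mul_one, ← mul_assoc] at h
    exact h
  · intro s hs
    rw [List.mem_append, List.mem_cons, List.mem_reverse] at hs
    rcases hs with hs | rfl | hs
    · exact s0w_lt s hs
    · omega
    · exact s0w_lt s hs
  · intro s hs
    rw [List.mem_singleton] at hs
    omega

/-- the fixed points of the element of order `11` -/
theorem fix_s0 {p : ℕ} (hp : p < cN) (h : act s0 p = p) : p = pI ∨ p = pB2 ∨ p = pB3 := by
  rw [act_s0 hp] at h
  have h1 : fS0 p = true := S0Chk_all hp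
  have h2 := testA_spec h1 (by
    intro w hw
    rw [List.mem_singleton] at hw
    rw [hw]
    exact h) (by intro w hw; exact absurd hw List.not_mem_nil)
  simp only [List.mem_cons, List.not_mem_nil, or_false] at h2
  exact h2

/-- an element which commutes with the element of order `11` and with the first generator commutes with the
generators of the long arm -/
theorem comm_arm {c : Fi24} (hs : Commute c s0) (h0 : Commute c (uu 0)) : ∀ k < 10, Commute c (uu k) := by
  intro k
  induction k with
  | zero => intro _; exact h0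
  | succ k ih =>
    intro hk
    rw [← s0_conj (by omega : k < 9)]
    exact (hs.mul_right (ih (by omega))).mul_right hs.inv_right

/-- the image of the first point under an element which commutes with the element of order `11` and with the
generator `i` -/
theorem img_mem_L44 {c : Fi24} (hs : Commute c s0) (hi : Commute c (uu 11)) : act c 0 ∈ L44 := by
  have he : IsT (c * uu 0 * c⁻¹) (act c 0) := by
    rw [uu_zero]
    exact isT_conj isT_tt c
  have hp : act c 0 < cN := isT_lt he
  have h11 : TT 11 (act c 0) = act c 0 := by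
    rw [← act_uu (by norm_num) hp]
    apply (comm_iff he (uu 11)).mp
    have h1 : Commute (uu 11) (uu 0) := uu_comm (by norm_num) (by norm_num) rfl
    exact ((hi.symm.mul_right h1).mul_right hi.symm.inv_right).eq
  have hc : ∀ k < 9, s0 * (c * uu k * c⁻¹) * s0⁻¹ = c * uu (k + 1) * c⁻¹ := by
    intro k hk
    rw [conj_conj_of_commute hs, s0_conj hk]
  have hst : st1 (act c 0) = false := by
    apply st1_false he
    · rw [hc 0 (by norm_num)]
      intro h
      exact uu_not_comm (by norm_num : 0 < 12) (by norm_num : 1 < 12) rfl ((conj_comm_iff c _ _).mp h)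
    · rw [hc 0 (by norm_num), hc 1 (by norm_num)]
      exact (conj_comm_iff c _ _).mpr (uu_comm (by norm_num : 0 < 12) (by norm_num : 2 < 12) rfl).eq
    · rw [hc 0 (by norm_num), hc 1 (by norm_num), hc 2 (by norm_num)]
      exact (conj_comm_iff c _ _).mpr (uu_comm (by norm_num : 0 < 12) (by norm_num : 3 < 12) rfl).eq
    · rw [hc 0 (by norm_num), hc 1 (by norm_num), hc 2 (by norm_num), hc 3 (by norm_num)]
      exact (conj_comm_iff c _ _).mpr (uu_comm (by norm_num : 0 < 12) (by norm_num : 4 < 12) rfl).eq
    · rw [hc 0 (by norm_num), hc 1 (by norm_num), hc 2 (by norm_num), hc 3 (by norm_num), hc 4 (by norm_num)]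
      exact (conj_comm_iff c _ _).mpr (uu_comm (by norm_num : 0 < 12) (by norm_num : 5 < 12) rfl).eq
  exact fC1_spec (C1Chk_all hp) h11 hst

/-- the words of the four products of the two transpositions -/
def zw : ℕ → List ℕ
  | 0 => []
  | 1 => wB2 ++ 0 :: wB2.reverse
  | 2 => wB3 ++ 0 :: wB3.reverse
  | _ => (wB2 ++ 0 :: wB2.reverse) ++ (wB3 ++ 0 :: wB3.reverse)

/-- the four products of the two transpositions -/
noncomputable def zz (zi : ℕ) : Fi24 := wprod uu (zw zi)

theorem zw_lt (zi : ℕ) : ∀ s ∈ zw zi, s < 12 := by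
  have h2 : ∀ s ∈ wB2 ++ 0 :: wB2.reverse, s < 12 := by decide
  have h3 : ∀ s ∈ wB3 ++ 0 :: wB3.reverse, s < 12 := by decide
  rcases zi with _ | _ | _ | zi
  · intro s hs; exact absurd hs List.not_mem_nil
  · exact h2
  · exact h3
  · intro s hs
    rcases List.mem_append.mp hs with hs | hs
    · exact h2 s hs
    · exact h3 s hs

theorem zz_cases (zi : ℕ) : zz zi = 1 ∨ zz zi = tB2 ∨ zz zi = tB3 ∨ zz zi = tB2 * tB3 := by
  rcases zi with _ | _ | _ | zi
  · left; rfl
  · right; left; rfl
  · right; right; left; rfl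
  · right; right; right
    show wprod uu ((wB2 ++ 0 :: wB2.reverse) ++ (wB3 ++ 0 :: wB3.reverse)) = _
    rw [wprod_append]
    rfl

/-- the words of the products of the powers of the element and the products of the transpositions -/
def nw (k zi : ℕ) : List ℕ := (List.replicate k s0w).flatten ++ zw zi

theorem nw_lt (k zi : ℕ) : ∀ s ∈ nw k zi, s < 12 := by
  intro s hs
  rcases List.mem_append.mp hs with hs | hs
  · exact flatten_replicate_lt s0w k 12 s0w_lt s hs
  · exact zw_lt zi s hs

theorem wprod_nw (k zi : ℕ) : wprod uu (nw k zi) = s0 ^ k * zz zi := by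
  unfold nw
  rw [wprod_append, wprod_pow]
  rfl

/-- the pairs of a power and a product -/
def idx44 : List (ℕ × ℕ) :=
  [(0, 0), (0, 1), (0, 2), (0, 3), (1, 0), (1, 1), (1, 2), (1, 3), (2, 0), (2, 1), (2, 2), (2, 3),
   (3, 0), (3, 1), (3, 2), (3, 3), (4, 0), (4, 1), (4, 2), (4, 3), (5, 0), (5, 1), (5, 2), (5, 3),
   (6, 0), (6, 1), (6, 2), (6, 3), (7, 0), (7, 1), (7, 2), (7, 3), (8, 0), (8, 1), (8, 2), (8, 3),
   (9, 0), (9, 1), (9, 2), (9, 3), (10, 0), (10, 1), (10, 2), (10, 3)]

theorem L44_eq : L44 = idx44.map (fun kz => Fn.applyW TT (nw kz.1 kz.2) 0) := by decide +kernel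

theorem zz_comm_s0 (zi : ℕ) : Commute (zz zi) s0 := by
  have h2 : Commute tB2 s0 := s0_comm_tB2.symm
  have h3 : Commute tB3 s0 := s0_comm_tB3.symm
  rcases zz_cases zi with h | h | h | h <;> rw [h]
  · exact Commute.one_left _
  · exact h2
  · exact h3
  · exact h2.mul_left h3

theorem zz_comm_i (zi : ℕ) : Commute (zz zi) (uu 11) := by
  have h2 : Commute tB2 (uu 11) := i_comm_tB2.symm
  have h3 : Commute tB3 (uu 11) := i_comm_tB3.symm
  rcases zz_cases zi with h | h | h | h <;> rw [h]
  · exact Commute.one_left _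
  · exact h2
  · exact h3
  · exact h2.mul_left h3

/-- an element which fixes the first point and commutes with the element of order `11` and with the generator `i` is
trivial or the generator `i` -/
theorem fix0_cent {c : Fi24} (hs : Commute c s0) (hi : Commute c (uu 11)) (h0 : act c 0 = 0) :
    c = 1 ∨ c = uu 11 := by
  have hc0 : Commute c (uu 0) := by
    rw [uu_zero]
    exact (fix_iff_comm c).mp h0
  have harm := comm_arm hs hc0
  have he : IsT (c * uu 10 * c⁻¹) (act c (qp 10)) := isT_conj (isT_gen (by norm_num)) c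
  have hq : act c (qp 10) < cN := isT_lt he
  -- the generators which commute with `h`
  have hfix : ∀ k < 12, adjB k 10 = false → Commute c (uu k) → TT k (act c (qp 10)) = act c (qp 10) := by
    intro k hk hadj hck
    rw [← act_uu hk hq]
    apply (comm_iff he (uu k)).mp
    have h1 : Commute (uu k) (uu 10) := uu_comm hk (by norm_num) hadj
    exact ((hck.symm.mul_right h1).mul_right hck.symm.inv_right).eq
  have hmov : ∀ k < 12, adjB k 10 = true → Commute c (uu k) → TT k (act c (qp 10)) ≠ act c (qp 10) := by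
    intro k hk hadj hck h
    rw [← act_uu hk hq] at h
    have h1 := (comm_iff he (uu k)).mpr h
    have h2 : uu k = c * uu k * c⁻¹ := by
      rw [hck.eq, mul_assoc, mul_inv_cancel, mul_one]
    rw [h2] at h1
    exact uu_not_comm hk (by norm_num : 10 < 12) hadj ((conj_comm_iff c _ _).mp h1)
  have h6 : fF6 (act c (qp 10)) = true := F6Chk_all hq
  have hmem := testA_spec h6 (by
    intro w hw
    simp only [List.mem_cons, List.not_mem_nil, or_false] at hw
    rcases hw with rfl | rfl | rfl | rfl | rfl | rfl | rfl | rfl | rfl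
    · exact hfix 0 (by norm_num) rfl (harm 0 (by norm_num))
    · exact hfix 1 (by norm_num) rfl (harm 1 (by norm_num))
    · exact hfix 2 (by norm_num) rfl (harm 2 (by norm_num))
    · exact hfix 3 (by norm_num) rfl (harm 3 (by norm_num))
    · exact hfix 4 (by norm_num) rfl (harm 4 (by norm_num))
    · exact hfix 6 (by norm_num) rfl (harm 6 (by norm_num))
    · exact hfix 7 (by norm_num) rfl (harm 7 (by norm_num))
    · exact hfix 8 (by norm_num) rfl (harm 8 (by norm_num))
    · exact hfix 9 (by norm_num) rfl (harm 9 (by norm_num))) (by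
    intro w hw
    simp only [List.mem_cons, List.not_mem_nil, or_false] at hw
    rcases hw with rfl | rfl
    · exact hmov 5 (by norm_num) rfl (harm 5 (by norm_num))
    · exact hmov 11 (by norm_num) rfl hi)
  have hall : ∀ γ : Fi24, (∀ k < 10, Commute γ (uu k)) → Commute γ (uu 11) → act γ (qp 10) = qp 10 → γ = 1 := by
    intro γ h1 h2 h3
    apply eq_one_of_comm
    intro k hk
    rw [← uu_gen hk]
    by_cases hk10 : k < 10
    · exact (h1 k hk10).eq
    · have : k = 10 ∨ k = 11 := by omega
      rcases this with rfl | rfl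
      · exact (comm_iff (isT_gen (by norm_num)) γ).mpr h3
      · exact h2.eq
  simp only [List.mem_cons, List.not_mem_nil, or_false] at hmem
  rcases hmem with hmem | hmem
  · left
    exact hall c harm hi hmem
  · right
    have h1 : uu 11 * c = 1 := by
      apply hall
      · intro k hk
        exact (uu_comm (by norm_num) (by omega) (by interval_cases k <;> rfl)).mul_left (harm k hk)
      · exact (Commute.refl _).mul_left hi
      · rw [act_mul, hmem, act_uu (by norm_num) (by decide)]
        decide +kernel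
    calc c = uu 11 * (uu 11 * c) := by rw [← mul_assoc, uu_sq, one_mul]
      _ = uu 11 := by rw [h1, mul_one]

/-- the elements which commute with the element of order `11` and with the generator `i` -/
theorem cent_s0_i {c : Fi24} (hs : Commute c s0) (hi : Commute c (uu 11)) :
    ∃ k zi, c = s0 ^ k * zz zi ∨ c = s0 ^ k * zz zi * uu 11 := by
  have hmem := img_mem_L44 hs hi
  rw [L44_eq, List.mem_map] at hmem
  obtain ⟨⟨k, zi⟩, _, hkz⟩ := hmem
  refine ⟨k, zi, ?_⟩
  have hn : act (s0 ^ k * zz zi) 0 = act c 0 := by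
    rw [← wprod_nw, act_word _ (nw_lt k zi) hN0]
    exact hkz
  have hns : Commute (s0 ^ k * zz zi) s0 := ((Commute.refl s0).pow_left k).mul_left (zz_comm_s0 zi)
  have hni : Commute (s0 ^ k * zz zi) (uu 11) :=
    ((show Commute s0 (uu 11) from s0_comm_i).pow_left k).mul_left (zz_comm_i zi)
  have h1 := fix0_cent (c := (s0 ^ k * zz zi)⁻¹ * c) (hns.inv_left.mul_left hs) (hni.inv_left.mul_left hi)
    (by rw [act_mul, ← hn, act_inv_act])
  rcases h1 with h1 | h1
  · left
    calc c = (s0 ^ k * zz zi) * ((s0 ^ k * zz zi)⁻¹ * c) := by group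
      _ = s0 ^ k * zz zi := by rw [h1, mul_one]
  · right
    calc c = (s0 ^ k * zz zi) * ((s0 ^ k * zz zi)⁻¹ * c) := by group
      _ = s0 ^ k * zz zi * uu 11 := by rw [h1]

end Cfsg.Agent.Lib.Helper12.OutFi24
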