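import Cfsg.Agent.Lib.Helper12.OutFi24.Scan

/-! the points fixed by eight other products of two generators, part 2 (generated, helper12) -/

set_option autoImplicit false
set_option maxRecDepth 1000000

namespace Cfsg.Agent.Lib.Helper12.OutFi24

theorem F13Chk_8 : scanK fF13 239131 268421 = true := by decide +kernel

theorem F13Chk_9 : scanK fF13 268421 297546 = true := by decide +kernel

theorem F13Chk_10 : scanK fF13 297546 306936 = true := by decide +kernel

end Cfsg.Agent.Lib.Helper12.OutFi24
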