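import Cfsg.Agent.Lib.Helper12.OutFi24.Iso23
import Cfsg.Agent.Lib.Helper12.OutFi24.F12ChkAll
import Cfsg.Agent.Lib.Helper12.OutFi24.F13ChkAll

/-!
An automorphism of the commutator subgroup of the presented group Fi24 which fixes the elements of the centraliser of
the first generator is trivial or the conjugation by the first generator (helper12).
-/

set_option autoImplicit false
set_option maxRecDepth 100000

namespace Cfsg.Agent.Lib.Helper12.OutFi24

open Cfsg.Spor Cfsg.Agent.Lib.Helper12.TC Cfsg.Agent.Lib.Helper12.TCG Cfsg.Agent.Lib.Helper12.TCG.Fi24Pres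
  Cfsg.Agent.Lib.Helper12.TCG.Fi24x306936 Cfsg.Agent.Lib.Helper12.Ord Cfsg.Agent.Lib.Helper12.Fi24
  Cfsg.Agent.Lib.Helper12.Fi24Ex

theorem mem_Hs_iff (x : Fi24) : x ∈ Hs ↔ act x 0 = 0 := by
  rw [fix_iff_comm, ← centralizer_tt, Subgroup.mem_centralizer_singleton_iff]

theorem comm_zero_iff (x : Fi24) : Commute x (uu 0) ↔ act x 0 = 0 := by
  rw [uu_zero, fix_iff_comm]
  exact Iff.rfl

theorem hh0_mem : hh0 ∈ Hs := by
  rw [mem_Hs_iff]
  unfold hh0
  rw [act_word _ h0W_lt hN0]
  decide +kernel

theorem act_hh0 : act hh0 275581 = 275286 := by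
  unfold hh0
  rw [act_word _ h0W_lt (by decide)]
  decide +kernel

/-- the orbits of the centraliser of the first generator -/
theorem cover_act {q : ℕ} (hq : q < cN) :
    q = 0 ∨ (∃ h ∈ Hs, act h 1 = q) ∨ (∃ h ∈ Hs, act h 275581 = q) := by
  rcases hcover ⟨q, hq⟩ with h | ⟨h, hh, e⟩ | ⟨h, hh, e⟩
  · left
    exact congrArg Fin.val h
  · right; left
    refine ⟨h, hh, ?_⟩
    have e1 : act (v 1) 0 = 1 := by
      rw [act_of_lt _ hN0, rho_v1]
    have e2 : act (h * v 1) 0 = q := by
      rw [act_of_lt _ hN0, map_mul, Equiv.Perm.mul_apply, e]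
    rw [act_mul, e1] at e2
    exact e2
  · right; right
    refine ⟨h * hh0, Subgroup.mul_mem _ hh hh0_mem, ?_⟩
    have e1 : act (wprod v (cw 2)) 0 = 275286 := by
      rw [act_of_lt _ hN0, rho_cw2]
    have e2 : act (h * wprod v (cw 2)) 0 = q := by
      rw [act_of_lt _ hN0, map_mul, Equiv.Perm.mul_apply, e]
    rw [act_mul, e1] at e2
    rw [act_mul, act_hh0]
    exact e2

/-- the elements of the commutator subgroup which fix the first point are transitive on the two orbits -/
theorem exists_mem_comm_act {p0 q : ℕ} {c0 : Fi24} (hc0 : c0 ∈ Hs) (hc0' : c0 ∉ commutator Fi24)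
    (hfix : act c0 p0 = p0) (h : ∃ h ∈ Hs, act h p0 = q) :
    ∃ m : LG, Commute (m : Fi24) (uu 0) ∧ act (m : Fi24) p0 = q := by
  obtain ⟨h, hh, e⟩ := h
  by_cases hL : h ∈ commutator Fi24
  · exact ⟨⟨h, hL⟩, (comm_zero_iff h).mpr ((mem_Hs_iff h).mp hh), e⟩
  · have h1 : h * c0 ∈ commutator Fi24 :=
      (mul_mem_comm_iff h c0).mpr ⟨fun h' => absurd h' hL, fun h' => absurd h' hc0'⟩
    refine ⟨⟨h * c0, h1⟩, (comm_zero_iff _).mpr ((mem_Hs_iff _).mp (Subgroup.mul_mem _ hh hc0)), ?_⟩
    show act (h * c0) p0 = q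
    rw [act_mul, hfix, e]

theorem uu_mem_Hs {k : ℕ} (hk : k < 12) (h1 : k ≠ 1) : uu k ∈ Hs := by
  rw [mem_Hs_iff, ← comm_zero_iff]
  exact (c0 hk h1).symm

theorem trans1 {q : ℕ} (h : ∃ h ∈ Hs, act h 1 = q) :
    ∃ m : LG, Commute (m : Fi24) (uu 0) ∧ act (m : Fi24) 1 = q :=
  exists_mem_comm_act (uu_mem_Hs (by norm_num : 4 < 12) (by norm_num)) (isT_not_mem (isT_gen (by norm_num)))
    (by rw [act_uu (by norm_num) (by decide)]; decide +kernel) h

theorem trans2 {q : ℕ} (h : ∃ h ∈ Hs, act h 275581 = q) :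
    ∃ m : LG, Commute (m : Fi24) (uu 0) ∧ act (m : Fi24) 275581 = q :=
  exists_mem_comm_act (uu_mem_Hs (by norm_num : 0 < 12) (by norm_num)) (isT_not_mem (isT_gen (by norm_num)))
    (by rw [act_uu (by norm_num) (by decide)]; decide +kernel) h

/-- the commutator subgroup is transitive on the points -/
theorem exists_LG_act {q : ℕ} (hq : q < cN) : ∃ x : LG, act (x : Fi24) 0 = q := by
  obtain ⟨e, c, _, hc⟩ := exists_isT hq
  rcases mem_or_mul_tt_mem c with h | h
  · exact ⟨⟨c, h⟩, hc⟩
  · refine ⟨⟨c * tt, h⟩, ?_⟩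
    show act (c * tt) 0 = q
    rw [act_mul, (fix_iff_comm tt).mpr rfl, hc]

/-- an element which fixes all points is trivial -/
theorem eq_one_of_act {w : Fi24} (h : ∀ q < cN, act w q = q) : w = 1 := by
  apply eq_one_of_comm
  intro k hk
  rw [← uu_gen hk]
  exact (comm_iff (isT_gen hk) w).mpr (h _ (qp_lt k hk))

/-- the word of an element which maps the first point to the point of the generator `j` -/
def xjW : List ℕ := [8, 9, 7, 8, 6, 7, 5, 6, 4, 5, 3, 4, 2, 3, 1, 2, 0, 1]

theorem xjW_lt : ∀ s ∈ xjW, s < 12 := by decide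

noncomputable def xj : LG := ⟨wprod uu xjW, wprod_mem_comm xjW xjW_lt rfl⟩

theorem act_xj : act (xj : Fi24) 0 = 275581 := by
  show act (wprod uu xjW) 0 = 275581
  rw [act_word _ xjW_lt hN0]
  decide +kernel

/-- an element which maps the first point to the second point -/
noncomputable def xk : LG := ⟨uu 1 * uu 0, isT_mul_mem (isT_gen (by norm_num)) (isT_gen (by norm_num))⟩

theorem act_xk : act (xk : Fi24) 0 = 1 := by
  show act (uu 1 * uu 0) 0 = 1
  rw [act_two (by norm_num) (by norm_num) hN0]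
  decide +kernel

/-- the word of an element of the centraliser which fixes the point of the generator `j` -/
def m490W : List ℕ := 0 :: ([8, 7, 6, 5, 10, 9, 8, 7, 6, 5, 4, 3, 1, 2, 0, 1] ++
  0 :: [8, 7, 6, 5, 10, 9, 8, 7, 6, 5, 4, 3, 1, 2, 0, 1].reverse)

theorem m490W_lt : ∀ s ∈ m490W, s < 12 := by decide

noncomputable def m490 : LG := ⟨wprod uu m490W, wprod_mem_comm m490W m490W_lt rfl⟩

theorem act_m490 {p : ℕ} (hp : p < cN) : act (m490 : Fi24) p = Fn.applyW TT m490W p :=
  act_word _ m490W_lt hp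

/-- the products of the first generator and the generators which commute with the generator `j` -/
noncomputable def mL (k : ℕ) (hk : k < 12) : LG :=
  ⟨uu 0 * uu k, isT_mul_mem (isT_gen (by norm_num)) (isT_gen hk)⟩

/-- the products of the generator `b` and the generators which commute with the generator `k` -/
noncomputable def mB (k : ℕ) (hk : k < 12) : LG :=
  ⟨uu 3 * uu k, isT_mul_mem (isT_gen (by norm_num)) (isT_gen hk)⟩

theorem fixJ_chk : ∀ k ∈ [2, 3, 4, 5, 6, 7, 10, 11], Fn.applyW TT [0, k] 275581 = 275581 := by decide +kernel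

theorem fixK_chk : ∀ k ∈ [4, 5, 6, 7, 8, 9, 10, 11], Fn.applyW TT [3, k] 1 = 1 := by decide +kernel

section

variable (δ : MulAut LG) (hδ : ∀ y : LG, Commute (y : Fi24) (uu 0) → δ y = y)

/-- the image of the first point under the image of an element -/
noncomputable def PP (x : LG) : ℕ := act ((δ x : LG) : Fi24) 0

include hδ

theorem PP_left {m : LG} (hm : Commute (m : Fi24) (uu 0)) (x : LG) : PP δ (m * x) = act (m : Fi24) (PP δ x) := by
  unfold PP
  rw [map_mul, hδ m hm, Subgroup.coe_mul, act_mul]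

theorem PP_right {m : LG} (hm : Commute (m : Fi24) (uu 0)) (x : LG) : PP δ (x * m) = PP δ x := by
  unfold PP
  rw [map_mul, hδ m hm, Subgroup.coe_mul, act_mul, (comm_zero_iff _).mp hm]

theorem PP_stab {m : LG} (hm : Commute (m : Fi24) (uu 0)) (x : LG)
    (h : act (m : Fi24) (act (x : Fi24) 0) = act (x : Fi24) 0) : act (m : Fi24) (PP δ x) = PP δ x := by
  have h1 : Commute ((x⁻¹ * m * x : LG) : Fi24) (uu 0) := by
    rw [comm_zero_iff, Subgroup.coe_mul, Subgroup.coe_mul, Subgroup.coe_inv, act_mul, act_mul, h, act_inv_act]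
  have h2 := hδ _ h1
  rw [map_mul, map_mul, map_inv, hδ m hm] at h2
  have h3 : Commute (((δ x)⁻¹ * m * δ x : LG) : Fi24) (uu 0) := by
    rw [h2]
    exact h1
  rw [comm_zero_iff, Subgroup.coe_mul, Subgroup.coe_mul, Subgroup.coe_inv, act_mul, act_mul] at h3
  have h4 := congrArg (act ((δ x : LG) : Fi24)) h3
  rw [act_act_inv] at h4
  exact h4

theorem PP_zero {x : LG} (h : PP δ x = 0) : act (x : Fi24) 0 = 0 := by
  have h1 : Commute ((δ x : LG) : Fi24) (uu 0) := (comm_zero_iff _).mpr h
  have h2 := hδ _ h1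
  have h3 : δ x = x := δ.injective h2
  rw [h3] at h1
  exact (comm_zero_iff _).mp h1

omit hδ in
theorem PP_lt (x : LG) : PP δ x < cN := act_lt _ hN0

theorem PP_xj : PP δ xj = 275581 := by
  have hfix : ∀ k ∈ [2, 3, 4, 5, 6, 7, 10, 11], Fn.applyW TT [0, k] (PP δ xj) = PP δ xj := by
    intro k hk
    have hk12 : k < 12 := by
      simp only [List.mem_cons, List.not_mem_nil, or_false] at hk
      omega
    have hk1 : k ≠ 1 := by
      simp only [List.mem_cons, List.not_mem_nil, or_false] at hk
      omega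
    have hm : Commute ((mL k hk12 : LG) : Fi24) (uu 0) := (Commute.refl _).mul_left (c0 hk12 hk1).symm
    have h1 := PP_stab δ hδ hm xj (by
      rw [act_xj]
      show act (uu 0 * uu k) 275581 = 275581
      rw [act_two (by norm_num) hk12 (by decide)]
      exact fixJ_chk k hk)
    rw [← act_two (by norm_num) hk12 (PP_lt δ xj)]
    exact h1
  have h12 : fF12 (PP δ xj) = true := F12Chk_all (PP_lt δ xj)
  have hmem := testA_spec h12 (by
    intro w hw
    simp only [List.mem_cons, List.not_mem_nil, or_false] at hw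
    rcases hw with rfl | rfl | rfl | rfl | rfl | rfl | rfl | rfl
    · exact hfix 2 (by simp)
    · exact hfix 3 (by simp)
    · exact hfix 4 (by simp)
    · exact hfix 5 (by simp)
    · exact hfix 6 (by simp)
    · exact hfix 7 (by simp)
    · exact hfix 10 (by simp)
    · exact hfix 11 (by simp)) (by intro w hw; exact absurd hw List.not_mem_nil)
  have hm490 : Commute ((m490 : LG) : Fi24) (uu 0) := by
    rw [comm_zero_iff, act_m490 hN0]
    decide +kernel
  have h490 := PP_stab δ hδ hm490 xj (by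
    rw [act_xj, act_m490 (by decide)]
    decide +kernel)
  rw [act_m490 (PP_lt δ xj)] at h490
  simp only [List.mem_cons, List.not_mem_nil, or_false] at hmem
  rcases hmem with h | h | h | h
  · exfalso
    have := PP_zero δ hδ h
    rw [act_xj] at this
    exact absurd this (by decide)
  · exact h
  · exfalso
    rw [h] at h490
    exact absurd h490 (by decide +kernel)
  · exfalso
    rw [h] at h490
    exact absurd h490 (by decide +kernel)

theorem PP_xk : PP δ xk = 1 ∨ PP δ xk = 3 := by
  have hfix : ∀ k ∈ [4, 5, 6, 7, 8, 9, 10, 11], Fn.applyW TT [3, k] (PP δ xk) = PP δ xk := by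
    intro k hk
    have hk12 : k < 12 := by
      simp only [List.mem_cons, List.not_mem_nil, or_false] at hk
      omega
    have hk1 : k ≠ 1 := by
      simp only [List.mem_cons, List.not_mem_nil, or_false] at hk
      omega
    have hm : Commute ((mB k hk12 : LG) : Fi24) (uu 0) :=
      ((c0 (by norm_num : 3 < 12) (by norm_num)).symm).mul_left (c0 hk12 hk1).symm
    have h1 := PP_stab δ hδ hm xk (by
      rw [act_xk]
      show act (uu 3 * uu k) 1 = 1
      rw [act_two (by norm_num) hk12 (by decide)]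
      exact fixK_chk k hk)
    rw [← act_two (by norm_num) hk12 (PP_lt δ xk)]
    exact h1
  have h13 : fF13 (PP δ xk) = true := F13Chk_all (PP_lt δ xk)
  have hmem := testA_spec h13 (by
    intro w hw
    simp only [List.mem_cons, List.not_mem_nil, or_false] at hw
    rcases hw with rfl | rfl | rfl | rfl | rfl | rfl | rfl | rfl
    · exact hfix 4 (by simp)
    · exact hfix 5 (by simp)
    · exact hfix 6 (by simp)
    · exact hfix 7 (by simp)
    · exact hfix 8 (by simp)
    · exact hfix 9 (by simp)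
    · exact hfix 10 (by simp)
    · exact hfix 11 (by simp)) (by intro w hw; exact absurd hw List.not_mem_nil)
  simp only [List.mem_cons, List.not_mem_nil, or_false] at hmem
  rcases hmem with h | h | h
  · exfalso
    have := PP_zero δ hδ h
    rw [act_xk] at this
    exact absurd this (by decide)
  · exact Or.inl h
  · exact Or.inr h

/-- the image of a point of an orbit -/
theorem PP_orbit {x0 : LG} {p0 : ℕ} (h0 : act (x0 : Fi24) 0 = p0) (hP : PP δ x0 = p0) {x : LG}
    (h : ∃ m : LG, Commute (m : Fi24) (uu 0) ∧ act (m : Fi24) p0 = act (x : Fi24) 0) :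
    PP δ x = act (x : Fi24) 0 := by
  obtain ⟨m, hm, e⟩ := h
  have h1 : Commute (((m * x0)⁻¹ * x : LG) : Fi24) (uu 0) := by
    have e2 : act (m : Fi24) (act (x0 : Fi24) 0) = act ((m * x0 : LG) : Fi24) 0 := by
      rw [Subgroup.coe_mul, act_mul]
    rw [comm_zero_iff, Subgroup.coe_mul, Subgroup.coe_inv, act_mul, ← e, ← h0, e2, act_inv_act]
  have h2 : x = (m * x0) * ((m * x0)⁻¹ * x) := by group
  rw [h2, PP_right δ hδ h1, PP_left δ hδ hm, hP, ← h2, e]

theorem eq_one_of_PP (hk : PP δ xk = 1) : δ = 1 := by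
  have hj := PP_xj δ hδ
  have hall : ∀ x : LG, PP δ x = act (x : Fi24) 0 := by
    intro x
    rcases cover_act (act_lt (x : Fi24) hN0) with h | h | h
    · have h1 : Commute (x : Fi24) (uu 0) := (comm_zero_iff _).mpr h
      unfold PP
      rw [hδ x h1]
    · exact PP_orbit δ hδ act_xk hk (trans1 h)
    · exact PP_orbit δ hδ act_xj hj (trans2 h)
  ext y
  rw [MulAut.one_apply]
  have h1 : ((y : Fi24))⁻¹ * ((δ y : LG) : Fi24) = 1 := by
    apply eq_one_of_act
    intro q hq
    obtain ⟨x, hx⟩ := exists_LG_act hq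
    have h2 := hall (y * x)
    unfold PP at h2
    rw [map_mul, Subgroup.coe_mul, Subgroup.coe_mul, act_mul, act_mul] at h2
    have h3 := hall x
    unfold PP at h3
    rw [h3, hx] at h2
    rw [act_mul, h2, act_inv_act]
  exact (inv_mul_eq_one.mp h1).symm

end

/-- an automorphism which fixes the elements of the centraliser of the first generator -/
theorem equivar (δ : MulAut LG) (hδ : ∀ y : LG, Commute (y : Fi24) (uu 0) → δ y = y) :
    δ = 1 ∨ cj (uu 0) * δ = 1 := by
  rcases PP_xk δ hδ with h | h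
  · exact Or.inl (eq_one_of_PP δ hδ h)
  · right
    have hδ' : ∀ y : LG, Commute (y : Fi24) (uu 0) → (cj (uu 0) * δ) y = y := by
      intro y hy
      rw [MulAut.mul_apply, hδ y hy]
      apply Subtype.ext
      rw [cj_apply, ← hy.eq, mul_assoc, mul_inv_cancel, mul_one]
    apply eq_one_of_PP _ hδ'
    unfold PP
    rw [MulAut.mul_apply, cj_apply, act_mul, act_mul]
    have e0 : act (uu 0)⁻¹ 0 = 0 := by
      rw [uu_inv]
      exact (comm_zero_iff _).mp (Commute.refl _)
    rw [e0]
    have e1 : act ((δ xk : LG) : Fi24) 0 = 3 := h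
    rw [e1, act_uu (by norm_num) (by decide)]
    decide +kernel

end Cfsg.Agent.Lib.Helper12.OutFi24
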