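import Cfsg.Agent.Lib.Helper12.OutFi24.Scan

/-! the points fixed by eight other products of two generators, part 0 (generated, helper12) -/

set_option autoImplicit false
set_option maxRecDepth 1000000

namespace Cfsg.Agent.Lib.Helper12.OutFi24

theorem F13Chk_0 : scanK fF13 0 29586 = true := by decide +kernel

theorem F13Chk_1 : scanK fF13 29586 59523 = true := by decide +kernel

theorem F13Chk_2 : scanK fF13 59523 89476 = true := by decide +kernel

theorem F13Chk_3 : scanK fF13 89476 119450 = true := by decide +kernel

end Cfsg.Agent.Lib.Helper12.OutFi24
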