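import Cfsg.Agent.Lib.Helper12.OutFi24.Scan

/-! the points fixed by nine generators and moved by two, part 0 (generated, helper12) -/

set_option autoImplicit false
set_option maxRecDepth 1000000

namespace Cfsg.Agent.Lib.Helper12.OutFi24

theorem F6Chk_0 : scanK fF6 0 44999 = true := by decide +kernel

theorem F6Chk_1 : scanK fF6 44999 89999 = true := by decide +kernel

theorem F6Chk_2 : scanK fF6 89999 134999 = true := by decide +kernel

theorem F6Chk_3 : scanK fF6 134999 179999 = true := by decide +kernel

end Cfsg.Agent.Lib.Helper12.OutFi24
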