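import Cfsg.Agent.Lib.Helper12.OutFi24.Scan

/-! the points fixed by the product of two commuting generators, part 0 (generated, helper12) -/

set_option autoImplicit false
set_option maxRecDepth 1000000

namespace Cfsg.Agent.Lib.Helper12.OutFi24

theorem F8Chk_0 : scanK fF8 0 30000 = true := by decide +kernel

theorem F8Chk_1 : scanK fF8 30000 60000 = true := by decide +kernel

theorem F8Chk_2 : scanK fF8 60000 90000 = true := by decide +kernel

theorem F8Chk_3 : scanK fF8 90000 120000 = true := by decide +kernel

end Cfsg.Agent.Lib.Helper12.OutFi24
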