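import Cfsg.Agent.Lib.Helper12.OutFi24.Scan

/-! the points fixed by the product of two commuting generators, part 1 (generated, helper12) -/

set_option autoImplicit false
set_option maxRecDepth 1000000

namespace Cfsg.Agent.Lib.Helper12.OutFi24

theorem F8Chk_4 : scanK fF8 120000 150000 = true := by decide +kernel

theorem F8Chk_5 : scanK fF8 150000 180000 = true := by decide +kernel

theorem F8Chk_6 : scanK fF8 180000 210000 = true := by decide +kernel

theorem F8Chk_7 : scanK fF8 210000 240000 = true := by decide +kernel

end Cfsg.Agent.Lib.Helper12.OutFi24
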