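import Cfsg.Agent.Lib.Helper12.OutFi24.F8Chk0
import Cfsg.Agent.Lib.Helper12.OutFi24.F8Chk1
import Cfsg.Agent.Lib.Helper12.OutFi24.F8Chk2

/-! the points fixed by the product of two commuting generators: all points (generated, helper12) -/

set_option autoImplicit false

namespace Cfsg.Agent.Lib.Helper12.OutFi24

theorem F8Chk_all {p : ℕ} (hp : p < 306936) : fF8 p = true := by
  by_cases h1 : p < 30000
  · exact scanK_spec F8Chk_0 (Nat.zero_le p) h1
  by_cases h2 : p < 60000
  · exact scanK_spec F8Chk_1 (Nat.le_of_not_lt h1) h2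
  by_cases h3 : p < 90000
  · exact scanK_spec F8Chk_2 (Nat.le_of_not_lt h2) h3
  by_cases h4 : p < 120000
  · exact scanK_spec F8Chk_3 (Nat.le_of_not_lt h3) h4
  by_cases h5 : p < 150000
  · exact scanK_spec F8Chk_4 (Nat.le_of_not_lt h4) h5
  by_cases h6 : p < 180000
  · exact scanK_spec F8Chk_5 (Nat.le_of_not_lt h5) h6
  by_cases h7 : p < 210000
  · exact scanK_spec F8Chk_6 (Nat.le_of_not_lt h6) h7
  by_cases h8 : p < 240000
  · exact scanK_spec F8Chk_7 (Nat.le_of_not_lt h7) h8
  by_cases h9 : p < 270000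
  · exact scanK_spec F8Chk_8 (Nat.le_of_not_lt h8) h9
  by_cases h10 : p < 297660
  · exact scanK_spec F8Chk_9 (Nat.le_of_not_lt h9) h10
  by_cases h11 : p < 306936
  · exact scanK_spec F8Chk_10 (Nat.le_of_not_lt h10) h11
  exact absurd hp h11

end Cfsg.Agent.Lib.Helper12.OutFi24
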