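import Cfsg.Agent.Lib.Helper12.OutFi24.Scan

/-! the points fixed by ten generators, part 0 (generated, helper12) -/

set_option autoImplicit false
set_option maxRecDepth 1000000

namespace Cfsg.Agent.Lib.Helper12.OutFi24

theorem F9Chk_0 : scanK fF9 0 44995 = true := by decide +kernel

theorem F9Chk_1 : scanK fF9 44995 89995 = true := by decide +kernel

theorem F9Chk_2 : scanK fF9 89995 134995 = true := by decide +kernel

theorem F9Chk_3 : scanK fF9 134995 179995 = true := by decide +kernel

end Cfsg.Agent.Lib.Helper12.OutFi24
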