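import Cfsg.Agent.Lib.Helper12.OutFi24.InvCent
import Cfsg.Agent.Lib.Helper12.OutFi24.F8ChkAll
import Cfsg.Agent.Lib.Helper12.OutFi24.F9ChkAll

/-!
The product of two commuting transpositions of the presented group Fi24 determines the two transpositions
(helper12).
-/

set_option autoImplicit false
set_option maxRecDepth 100000

namespace Cfsg.Agent.Lib.Helper12.OutFi24

open Cfsg.Spor Cfsg.Agent.Lib.Helper12.TC Cfsg.Agent.Lib.Helper12.TCG Cfsg.Agent.Lib.Helper12.TCG.Fi24Pres
  Cfsg.Agent.Lib.Helper12.TCG.Fi24x306936 Cfsg.Agent.Lib.Helper12.Ord Cfsg.Agent.Lib.Helper12.Fi24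
  Cfsg.Agent.Lib.Helper12.Fi24Ex

open scoped commutatorElement

/-- two transpositions commute or satisfy the braid relation -/
theorem isT_three {e e' : Fi24} {p p' : ℕ} (h : IsT e p) (h' : IsT e' p') :
    e * e' = e' * e ∨ e * e' * e = e' * e * e' := by
  have he : e ∈ conjugatesOf tt := (mem_conjugatesOf_iff e).mpr ⟨p, h⟩
  have he' : e' ∈ conjugatesOf tt := (mem_conjugatesOf_iff e').mpr ⟨p', h'⟩
  have hi : e⁻¹ = e := isT_inv h
  have hi' : e'⁻¹ = e' := isT_inv h'
  rcases isThreeTranspositionClass.1.2 e he e' he' with h2 | h3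
  · left
    have h4 : (e * e') * (e * e') = 1 := by rw [← pow_two]; exact h2
    have h5 : e * e' = (e * e')⁻¹ := eq_inv_of_mul_eq_one_left h4
    rw [mul_inv_rev, hi, hi'] at h5
    exact h5
  · right
    have h4 : (e * e' * e) * (e' * e * e') = 1 := by
      rw [pow_succ, pow_two] at h3
      rw [← h3]
      group
    have h5 : e * e' * e = (e' * e * e')⁻¹ := eq_inv_of_mul_eq_one_left h4
    rw [mul_inv_rev, mul_inv_rev, hi, hi', ← mul_assoc] at h5
    exact h5

/-- a transposition which commutes with the product of two commuting transpositions commutes with the two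
transpositions -/
theorem comm_factor {y d d' : Fi24} {q p p' : ℕ} (hy : IsT y q) (hd : IsT d p) (hd' : IsT d' p')
    (hz : d * d' ≠ 1) (hyz : Commute y (d * d')) : Commute y d := by
  have hy2 : y * y = 1 := isT_sq hy
  have hd2 : d * d = 1 := isT_sq hd
  have hd2' : d' * d' = 1 := isT_sq hd'
  have key : (y * d * y) * (y * d' * y) = d * d' := by
    calc (y * d * y) * (y * d' * y) = y * d * (y * y) * d' * y := by group
      _ = y * (d * d') * y := by rw [hy2]; group
      _ = (d * d') * y * y := by rw [hyz.eq]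
      _ = d * d' := by rw [mul_assoc, hy2, mul_one]
  by_contra hnc
  rcases isT_three hy hd with h | h
  · exact hnc h
  rcases isT_three hy hd' with h' | h'
  · have e1 : y * d' * y = d' := by rw [h', mul_assoc, hy2, mul_one]
    rw [e1] at key
    have e2 : y * d * y = d := mul_right_cancel key
    apply hnc
    show y * d = d * y
    calc y * d = (y * d * y) * y := by rw [mul_assoc (y * d), hy2, mul_one]
      _ = d * y := by rw [e2]
  · rw [h, h'] at key
    apply hz
    rw [← key]
    calc (d * y * d) * (d' * y * d') = d * (y * (d * d')) * y * d' := by group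
      _ = d * ((d * d') * y) * y * d' := by rw [hyz.eq]
      _ = (d * d) * d' * (y * y) * d' := by group
      _ = 1 := by rw [hd2, hy2, one_mul, mul_one, hd2']

/-- the product of two commuting transpositions determines the two transpositions -/
def Fact2 (t t' : Fi24) : Prop :=
  ∀ (d d' : Fi24) (p p' : ℕ), IsT d p → IsT d' p' → d * d' = t * t' → (d = t ∧ d' = t') ∨ (d = t' ∧ d' = t)

theorem qp_zero : qp 0 = 0 := rfl

theorem qp_nine : qp 9 = 275581 := rfl

theorem c09 : Commute (uu 0) (uu 9) := uu_comm (by norm_num) (by norm_num) rfl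

theorem uu_ne {a b : ℕ} (ha : a < 12) (hb : b < 12) (h : qp a ≠ qp b) : uu a ≠ uu b := by
  intro e
  have h1 := isT_gen ha
  rw [e] at h1
  exact h (point_unique h1 (isT_gen hb))

theorem act_two {a b : ℕ} (ha : a < 12) (hb : b < 12) {p : ℕ} (hp : p < cN) :
    act (uu a * uu b) p = Fn.applyW TT [a, b] p := by
  have h := act_word [a, b] (by
    intro s hs
    simp only [List.mem_cons, List.not_mem_nil, or_false] at hs
    rcases hs with rfl | rfl
    · exact ha
    · exact hb) hp
  rw [wprod_cons, wprod_cons, wprod_nil, mul_one] at h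
  exact h

/-- the factors of the product of the generators `l` and `j` -/
theorem fact_lj : Fact2 (uu 0) (uu 9) := by
  intro d d' p p' hd hd' h
  have hp : p < cN := isT_lt hd
  have hd2 : d * d = 1 := isT_sq hd
  have hz2 : (uu 0 * uu 9) * (uu 0 * uu 9) = 1 := sq_of_comm c09 (uu_sq 0) (uu_sq 9)
  have hd'eq : d' = d * (uu 0 * uu 9) := by
    rw [← h, ← mul_assoc, hd2, one_mul]
  -- the transposition commutes with the product
  have hdz : Commute d (uu 0 * uu 9) := by
    have h1 : (d * (uu 0 * uu 9)) * (d * (uu 0 * uu 9)) = 1 := by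
      rw [← hd'eq]
      exact isT_sq hd'
    have h2 : d * (uu 0 * uu 9) = (d * (uu 0 * uu 9))⁻¹ := eq_inv_of_mul_eq_one_left h1
    rw [mul_inv_rev, isT_inv hd, inv_eq_of_mul_eq_one_left hz2] at h2
    exact h2
  have hfix : Fn.applyW TT [0, 9] p = p := by
    rw [← act_two (by norm_num) (by norm_num) hp]
    exact (comm_iff hd _).mp hdz.symm.eq
  -- the two cases of the conclusion
  have fin0 : p = 0 → (d = uu 0 ∧ d' = uu 9) ∨ (d = uu 9 ∧ d' = uu 0) := by
    intro hp0
    left
    have e : d = uu 0 := by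
      rw [hp0] at hd
      exact elt_unique hd (isT_gen (by norm_num))
    refine ⟨e, ?_⟩
    rw [hd'eq, e, ← mul_assoc, uu_sq, one_mul]
  have fin9 : p = 275581 → (d = uu 0 ∧ d' = uu 9) ∨ (d = uu 9 ∧ d' = uu 0) := by
    intro hp9
    right
    have e : d = uu 9 := by
      rw [hp9] at hd
      exact elt_unique hd (isT_gen (by norm_num))
    refine ⟨e, ?_⟩
    rw [hd'eq, e, c09.eq, ← mul_assoc, uu_sq, one_mul]
  have h8 : fF8 p = true := F8Chk_all hp
  rcases testB_spec h8 (by
    intro w hw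
    rw [List.mem_singleton] at hw
    rw [hw]
    exact hfix) with hmem | hboth
  · simp only [List.mem_cons, List.not_mem_nil, or_false] at hmem
    rcases hmem with hmem | hmem
    · exact fin0 hmem
    · exact fin9 hmem
  · -- the transposition commutes with the two generators
    have hz1 : uu 0 * uu 9 ≠ 1 := by
      intro h1
      have h2 : uu 0 = (uu 9)⁻¹ := eq_inv_of_mul_eq_one_left h1
      rw [uu_inv] at h2
      exact uu_ne (by norm_num : 0 < 12) (by norm_num : 9 < 12) (by decide) h2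
    have hgen : ∀ k < 12, adjB k 0 = false → adjB k 9 = false → TT k p = p := by
      intro k hk h0 h9
      rw [← act_uu hk hp]
      apply (comm_iff hd (uu k)).mp
      have h1 : Commute (uu k) (d * d') := by
        rw [h]
        exact (uu_comm hk (by norm_num) h0).mul_right (uu_comm hk (by norm_num) h9)
      exact (comm_factor (isT_gen hk) hd hd' (by rw [h]; exact hz1) h1).eq
    have h9 : fF9 p = true := F9Chk_all hp
    have hmem := testA_spec h9 (by
      intro w hw
      simp only [List.mem_cons, List.not_mem_nil, or_false] at hw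
      rcases hw with rfl | rfl | rfl | rfl | rfl | rfl | rfl | rfl | rfl | rfl
      · exact hgen 0 (by norm_num) rfl rfl
      · exact hgen 9 (by norm_num) rfl rfl
      · exact hgen 2 (by norm_num) rfl rfl
      · exact hgen 3 (by norm_num) rfl rfl
      · exact hgen 4 (by norm_num) rfl rfl
      · exact hgen 5 (by norm_num) rfl rfl
      · exact hgen 6 (by norm_num) rfl rfl
      · exact hgen 7 (by norm_num) rfl rfl
      · exact hgen 10 (by norm_num) rfl rfl
      · exact hgen 11 (by norm_num) rfl rfl) (by intro w hw; exact absurd hw List.not_mem_nil)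
    simp only [List.mem_cons, List.not_mem_nil, or_false] at hmem
    rcases hmem with hmem | hmem
    · exact fin0 hmem
    · exact fin9 hmem

/-- the conjugates of a pair of transpositions with unique factors -/
theorem fact2_conj {t t' : Fi24} (h : Fact2 t t') (x : Fi24) : Fact2 (x * t * x⁻¹) (x * t' * x⁻¹) := by
  intro d d' p p' hd hd' hdd
  have h1 := h (x⁻¹ * d * x⁻¹⁻¹) (x⁻¹ * d' * x⁻¹⁻¹) _ _ (isT_conj hd x⁻¹) (isT_conj hd' x⁻¹) (by
    calc (x⁻¹ * d * x⁻¹⁻¹) * (x⁻¹ * d' * x⁻¹⁻¹) = x⁻¹ * (d * d') * x := by group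
      _ = t * t' := by rw [hdd]; group)
  have e : ∀ a b : Fi24, x⁻¹ * a * x⁻¹⁻¹ = b → a = x * b * x⁻¹ := by
    intro a b hab
    rw [← hab]
    group
  rcases h1 with ⟨h1, h2⟩ | ⟨h1, h2⟩
  · exact Or.inl ⟨e _ _ h1, e _ _ h2⟩
  · exact Or.inr ⟨e _ _ h1, e _ _ h2⟩

/-- the elements which commute with the product fix or exchange the two transpositions -/
theorem perm_of_fact2 {t t' : Fi24} {p p' : ℕ} (ht : IsT t p) (ht' : IsT t' p') (h : Fact2 t t') {x : Fi24}
    (hx : Commute x (t * t')) :
    (x * t * x⁻¹ = t ∧ x * t' * x⁻¹ = t' ∧ x⁻¹ * t * x = t ∧ x⁻¹ * t' * x = t') ∨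
    (x * t * x⁻¹ = t' ∧ x * t' * x⁻¹ = t ∧ x⁻¹ * t * x = t' ∧ x⁻¹ * t' * x = t) := by
  have h1 := h (x * t * x⁻¹) (x * t' * x⁻¹) _ _ (isT_conj ht x) (isT_conj ht' x) (by
    calc (x * t * x⁻¹) * (x * t' * x⁻¹) = (x * (t * t')) * x⁻¹ := by group
      _ = t * t' := by rw [hx.eq]; group)
  rcases h1 with ⟨h1, h2⟩ | ⟨h1, h2⟩
  · left
    refine ⟨h1, h2, ?_, ?_⟩
    · nth_rewrite 1 [← h1]; group
    · nth_rewrite 1 [← h2]; group
  · right
    refine ⟨h1, h2, ?_, ?_⟩
    · nth_rewrite 1 [← h2]; group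
    · nth_rewrite 1 [← h1]; group

/-- the commutators of the elements which commute with the product commute with the two transpositions -/
theorem comm_of_fact2 {t t' : Fi24} {p p' : ℕ} (ht : IsT t p) (ht' : IsT t' p') (h : Fact2 t t') {x y : Fi24}
    (hx : Commute x (t * t')) (hy : Commute y (t * t')) : Commute ⁅x, y⁆ t := by
  have e : ⁅x, y⁆ * t * ⁅x, y⁆⁻¹ = x * (y * (x⁻¹ * (y⁻¹ * t * y) * x) * y⁻¹) * x⁻¹ := by
    rw [commutatorElement_def]
    group
  have key : ⁅x, y⁆ * t * ⁅x, y⁆⁻¹ = t := by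
    rw [e]
    rcases perm_of_fact2 ht ht' h hx with ⟨x1, x2, x3, x4⟩ | ⟨x1, x2, x3, x4⟩ <;>
    rcases perm_of_fact2 ht ht' h hy with ⟨y1, y2, y3, y4⟩ | ⟨y1, y2, y3, y4⟩
    · rw [y3, x3, y1, x1]
    · rw [y3, x4, y2, x1]
    · rw [y3, x3, y2, x2]
    · rw [y3, x4, y1, x2]
  show ⁅x, y⁆ * t = t * ⁅x, y⁆
  calc ⁅x, y⁆ * t = (⁅x, y⁆ * t * ⁅x, y⁆⁻¹) * ⁅x, y⁆ := by group
    _ = t * ⁅x, y⁆ := by rw [key]

end Cfsg.Agent.Lib.Helper12.OutFi24
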