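import Cfsg.Agent.Lib.Helper12.OutFi24.CG

/-!
The centraliser of the generator `l` of the presented group Fi24 in the commutator subgroup is generated by the
commutator subgroups of the centralisers of the products of `l` with the generators `j` and `a` (helper12).
-/

set_option autoImplicit false
set_option maxRecDepth 100000

namespace Cfsg.Agent.Lib.Helper12.OutFi24

open Cfsg.Spor Cfsg.Agent.Lib.Helper12.TC Cfsg.Agent.Lib.Helper12.TCG Cfsg.Agent.Lib.Helper12.TCG.Fi24Pres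
  Cfsg.Agent.Lib.Helper12.TCG.Fi24x306936 Cfsg.Agent.Lib.Helper12.Ord Cfsg.Agent.Lib.Helper12.Fi24
  Cfsg.Agent.Lib.Helper12.Fi24Ex

open scoped commutatorElement

theorem g_eq_uu (y : Fi24.Gen) : g y = uu (idx y) := by
  have h : ∀ k < 12, v k = uu k := fun k hk => (uu_gen hk).symm
  cases y <;> first
    | exact h 0 (by norm_num) | exact h 1 (by norm_num) | exact h 2 (by norm_num) | exact h 3 (by norm_num)
    | exact h 4 (by norm_num) | exact h 5 (by norm_num) | exact h 6 (by norm_num) | exact h 7 (by norm_num)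
    | exact h 8 (by norm_num) | exact h 9 (by norm_num) | exact h 10 (by norm_num) | exact h 11 (by norm_num)

/-- the products of the generator `l` with the other generators of the centraliser -/
def genT : Set Fi24 := {x | ∃ k, 2 ≤ k ∧ k < 12 ∧ x = uu 0 * uu k}

theorem genT_le_comm : Subgroup.closure genT ≤ commutator Fi24 := by
  rw [Subgroup.closure_le]
  rintro x ⟨k, _, hk, rfl⟩
  exact isT_mul_mem (isT_gen (by norm_num)) (isT_gen hk)

theorem c0 {k : ℕ} (hk : k < 12) (h1 : k ≠ 1) : Commute (uu 0) (uu k) := by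
  apply uu_comm (by norm_num) hk
  interval_cases k <;> first | rfl | exact absurd rfl h1

/-- the elements of the centraliser of `l` are products of the generators, up to `l` -/
theorem Hs_genT {x : Fi24} (hx : x ∈ Hs) : x ∈ Subgroup.closure genT ∨ x * uu 0 ∈ Subgroup.closure genT := by
  have hl : ∀ h ∈ Hs, h * uu 0 = uu 0 * h := by
    intro h hh
    rw [uu_zero]
    exact l_central h hh
  have key : x ∈ Hs ∧ (x ∈ Subgroup.closure genT ∨ x * uu 0 ∈ Subgroup.closure genT) := by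
    rw [Hs_eq] at hx
    induction hx using Subgroup.closure_induction with
    | mem x hx =>
      obtain ⟨y, hy, rfl⟩ := hx
      refine ⟨g_mem_Hs y hy, Or.inr ?_⟩
      rw [g_eq_uu]
      have hy' : idx y = 0 ∨ (2 ≤ idx y ∧ idx y < 12) := by
        simp only [SH, Set.mem_insert_iff, Set.mem_singleton_iff] at hy
        rcases hy with rfl | rfl | rfl | rfl | rfl | rfl | rfl | rfl | rfl | rfl | rfl <;> decide
      rcases hy' with h0 | ⟨h2, h12⟩
      · rw [h0, uu_sq]
        exact Subgroup.one_mem _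
      · apply Subgroup.subset_closure
        exact ⟨idx y, h2, h12, ((c0 h12 (by omega)).eq).symm⟩
    | one => exact ⟨Subgroup.one_mem _, Or.inl (Subgroup.one_mem _)⟩
    | mul x y _ _ ihx ihy =>
      obtain ⟨hx, hx'⟩ := ihx
      obtain ⟨hy, hy'⟩ := ihy
      refine ⟨Subgroup.mul_mem _ hx hy, ?_⟩
      rcases hx' with hx' | hx' <;> rcases hy' with hy' | hy'
      · exact Or.inl (Subgroup.mul_mem _ hx' hy')
      · right
        rw [mul_assoc]
        exact Subgroup.mul_mem _ hx' hy'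
      · right
        have e : x * y * uu 0 = (x * uu 0) * y := by
          rw [mul_assoc, hl y hy, ← mul_assoc]
        rw [e]
        exact Subgroup.mul_mem _ hx' hy'
      · left
        have e : x * y = (x * uu 0) * (y * uu 0) := by
          rw [hl y hy, mul_assoc, ← mul_assoc (uu 0), uu_sq, one_mul]
        rw [e]
        exact Subgroup.mul_mem _ hx' hy'
    | inv x _ ih =>
      obtain ⟨hx, hx'⟩ := ih
      refine ⟨Subgroup.inv_mem _ hx, ?_⟩
      rcases hx' with hx' | hx'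
      · exact Or.inl (Subgroup.inv_mem _ hx')
      · right
        have e : x⁻¹ * uu 0 = (x * uu 0)⁻¹ := by
          rw [mul_inv_rev, uu_inv, ← hl _ (Subgroup.inv_mem _ hx)]
        rw [e]
        exact Subgroup.inv_mem _ hx'
  exact key.2

/-- the centraliser of `l` in the commutator subgroup is generated by the products -/
theorem CG_l_le : CG (uu 0) ≤ Subgroup.closure genT := by
  intro x hx
  obtain ⟨h1, h2⟩ := mem_CG.mp hx
  have hxs : x ∈ Hs := by
    rw [← centralizer_tt, Subgroup.mem_centralizer_singleton_iff, ← uu_zero]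
    exact h1.eq
  rcases Hs_genT hxs with h | h
  · exact h
  · exfalso
    have h3 := genT_le_comm h
    have h4 := (mul_mem_comm_iff x (uu 0)).mp h3
    have h5 : uu 0 ∈ commutator Fi24 := h4.mp h2
    exact isT_not_mem (isT_gen (by norm_num)) h5

/-- the braid relation of two generators which do not commute -/
theorem uu_braid {a b : ℕ} (ha : a < 12) (hb : b < 12) (h : adjB a b = true) :
    uu a * uu b * uu a = uu b * uu a * uu b := by
  rcases isT_three (isT_gen ha) (isT_gen hb) with h1 | h1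
  · exact absurd h1 (uu_not_comm ha hb h)
  · exact h1

/-- the conjugate of a generator under the product with a generator which does not commute with it -/
theorem uu_conj_adj {a b : ℕ} (ha : a < 12) (hb : b < 12) (h : adjB a b = true) :
    (uu a * uu b) * uu a * (uu a * uu b)⁻¹ = uu b := by
  rw [mul_inv_rev, uu_inv, uu_inv]
  calc uu a * uu b * uu a * (uu b * uu a) = (uu a * uu b * uu a) * uu b * uu a := by group
    _ = (uu b * uu a * uu b) * uu b * uu a := by rw [uu_braid ha hb h]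
    _ = uu b * uu a * (uu b * uu b) * uu a := by group
    _ = uu b := by rw [uu_sq, mul_one, mul_assoc, uu_sq, mul_one]

section frame

/-- the centraliser of the product of `l` and `j` in the commutator subgroup -/
noncomputable def Qj : Subgroup Fi24 := CG (uu 0 * uu 9)

/-- the generators which commute with `l` and `j` -/
def E8 (k : ℕ) : Prop := (2 ≤ k ∧ k ≤ 7) ∨ k = 10 ∨ k = 11

theorem E8_lt {k : ℕ} (h : E8 k) : k < 12 := by
  unfold E8 at h
  omega

theorem E8_comm {k : ℕ} (h : E8 k) : Commute (uu k) (uu 0 * uu 9) := by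
  have hk := E8_lt h
  have h0 : adjB k 0 = false := by
    unfold E8 at h
    have : k = 2 ∨ k = 3 ∨ k = 4 ∨ k = 5 ∨ k = 6 ∨ k = 7 ∨ k = 10 ∨ k = 11 := by omega
    rcases this with rfl | rfl | rfl | rfl | rfl | rfl | rfl | rfl <;> rfl
  have h9 : adjB k 9 = false := by
    unfold E8 at h
    have : k = 2 ∨ k = 3 ∨ k = 4 ∨ k = 5 ∨ k = 6 ∨ k = 7 ∨ k = 10 ∨ k = 11 := by omega
    rcases this with rfl | rfl | rfl | rfl | rfl | rfl | rfl | rfl <;> rfl
  exact (uu_comm hk (by norm_num) h0).mul_right (uu_comm hk (by norm_num) h9)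

theorem m_mem {k : ℕ} (h : E8 k) : uu 0 * uu k ∈ Qj := by
  refine mem_CG.mpr ⟨?_, isT_mul_mem (isT_gen (by norm_num)) (isT_gen (E8_lt h))⟩
  have h0 : Commute (uu 0) (uu 0 * uu 9) := (Commute.refl _).mul_right c09
  exact h0.mul_left (E8_comm h)

theorem w_mem {k k' : ℕ} (h : E8 k) (h' : E8 k') : uu k * uu k' ∈ Qj := by
  refine mem_CG.mpr ⟨?_, isT_mul_mem (isT_gen (E8_lt h)) (isT_gen (E8_lt h'))⟩
  exact (E8_comm h).mul_left (E8_comm h')

/-- the image of a product in the quotient of the centraliser by its commutator subgroup -/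
noncomputable def ab (k : ℕ) (h : E8 k) : Abelianization Qj := Abelianization.of ⟨uu 0 * uu k, m_mem h⟩

theorem ab_adj {k k' : ℕ} (h : E8 k) (h' : E8 k') (hadj : adjB k k' = true) : ab k h = ab k' h' := by
  have hk := E8_lt h
  have hk' := E8_lt h'
  have h0 : Commute (uu 0) (uu k * uu k') :=
    (c0 hk (by unfold E8 at h; omega)).mul_right (c0 hk' (by unfold E8 at h'; omega))
  have e : (⟨uu 0 * uu k', m_mem h'⟩ : Qj) =
      ⟨uu k * uu k', w_mem h h'⟩ * ⟨uu 0 * uu k, m_mem h⟩ * (⟨uu k * uu k', w_mem h h'⟩ : Qj)⁻¹ := by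
    apply Subtype.ext
    show uu 0 * uu k' = (uu k * uu k') * (uu 0 * uu k) * (uu k * uu k')⁻¹
    calc uu 0 * uu k' = uu 0 * ((uu k * uu k') * uu k * (uu k * uu k')⁻¹) := by rw [uu_conj_adj hk hk' hadj]
      _ = ((uu k * uu k') * uu 0) * uu k * (uu k * uu k')⁻¹ := by rw [← h0.eq]; group
      _ = (uu k * uu k') * (uu 0 * uu k) * (uu k * uu k')⁻¹ := by group
  unfold ab
  rw [e, map_mul, map_mul, map_inv, mul_comm, inv_mul_cancel_left]

theorem ab_sq {k : ℕ} (h : E8 k) : ab k h * ab k h = 1 := by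
  unfold ab
  rw [← map_mul]
  have e : (⟨uu 0 * uu k, m_mem h⟩ : Qj) * ⟨uu 0 * uu k, m_mem h⟩ = 1 := by
    apply Subtype.ext
    exact sq_of_comm (c0 (E8_lt h) (by unfold E8 at h; omega)) (uu_sq 0) (uu_sq k)
  rw [e, map_one]

theorem e2 : E8 2 := by unfold E8; omega
theorem e3 : E8 3 := by unfold E8; omega
theorem e4 : E8 4 := by unfold E8; omega
theorem e5 : E8 5 := by unfold E8; omega
theorem e6 : E8 6 := by unfold E8; omega
theorem e7 : E8 7 := by unfold E8; omega
theorem e10 : E8 10 := by unfold E8; omega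
theorem e11 : E8 11 := by unfold E8; omega

/-- the relation of the presentation in terms of the products -/
theorem prod_pow : ((uu 0 * uu 2) * (uu 0 * uu 3) * (uu 0 * uu 4) * (uu 0 * uu 5) * (uu 0 * uu 6) * (uu 0 * uu 7) *
    (uu 0 * uu 10)) ^ 9 = 1 := by
  have h2 := c0 (by norm_num : 2 < 12) (by norm_num)
  have h3 := c0 (by norm_num : 3 < 12) (by norm_num)
  have h4 := c0 (by norm_num : 4 < 12) (by norm_num)
  have h5 := c0 (by norm_num : 5 < 12) (by norm_num)
  have h6 := c0 (by norm_num : 6 < 12) (by norm_num)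
  have h7 := c0 (by norm_num : 7 < 12) (by norm_num)
  have h10 := c0 (by norm_num : 10 < 12) (by norm_num)
  have hl : uu 0 = (uu 2 * uu 3 * uu 4 * uu 5 * uu 6 * uu 7 * uu 10) ^ 9 := by
    have := l_eq
    rw [g_eq_uu, g_eq_uu, g_eq_uu, g_eq_uu, g_eq_uu, g_eq_uu, g_eq_uu, g_eq_uu] at this
    exact this
  have hP : Commute (uu 0) (uu 2 * uu 3 * uu 4 * uu 5 * uu 6 * uu 7 * uu 10) :=
    ((((((h2.mul_right h3).mul_right h4).mul_right h5).mul_right h6).mul_right h7).mul_right h10)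
  have e : (uu 0 * uu 2) * (uu 0 * uu 3) * (uu 0 * uu 4) * (uu 0 * uu 5) * (uu 0 * uu 6) * (uu 0 * uu 7) *
      (uu 0 * uu 10) = uu 0 * (uu 2 * uu 3 * uu 4 * uu 5 * uu 6 * uu 7 * uu 10) := by
    have s : uu 0 * uu 0 = 1 := uu_sq 0
    calc (uu 0 * uu 2) * (uu 0 * uu 3) * (uu 0 * uu 4) * (uu 0 * uu 5) * (uu 0 * uu 6) * (uu 0 * uu 7) *
        (uu 0 * uu 10)
        = uu 0 * (uu 2 * uu 0) * uu 3 * (uu 0 * uu 4) * (uu 0 * uu 5) * (uu 0 * uu 6) * (uu 0 * uu 7) *
          (uu 0 * uu 10) := by group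
      _ = (uu 0 * uu 0) * uu 2 * uu 3 * (uu 0 * uu 4) * (uu 0 * uu 5) * (uu 0 * uu 6) * (uu 0 * uu 7) *
          (uu 0 * uu 10) := by rw [← h2.eq]; group
      _ = uu 2 * (uu 3 * uu 0) * uu 4 * (uu 0 * uu 5) * (uu 0 * uu 6) * (uu 0 * uu 7) * (uu 0 * uu 10) := by
          rw [s]; group
      _ = uu 2 * uu 0 * uu 3 * uu 4 * (uu 0 * uu 5) * (uu 0 * uu 6) * (uu 0 * uu 7) * (uu 0 * uu 10) := by
          rw [← h3.eq]; group
      _ = uu 0 * uu 2 * uu 3 * (uu 4 * uu 0) * uu 5 * (uu 0 * uu 6) * (uu 0 * uu 7) * (uu 0 * uu 10) := by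
          rw [← h2.eq]; group
      _ = uu 0 * uu 2 * (uu 3 * uu 0) * uu 4 * uu 5 * (uu 0 * uu 6) * (uu 0 * uu 7) * (uu 0 * uu 10) := by
          rw [← h4.eq]; group
      _ = uu 0 * (uu 2 * uu 0) * uu 3 * uu 4 * uu 5 * (uu 0 * uu 6) * (uu 0 * uu 7) * (uu 0 * uu 10) := by
          rw [← h3.eq]; group
      _ = (uu 0 * uu 0) * uu 2 * uu 3 * uu 4 * uu 5 * (uu 0 * uu 6) * (uu 0 * uu 7) * (uu 0 * uu 10) := by
          rw [← h2.eq]; group
      _ = (uu 2 * uu 3 * uu 4 * uu 5) * (uu 0 * uu 6) * (uu 0 * uu 7) * (uu 0 * uu 10) := by rw [s]; group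
      _ = (uu 0 * (uu 2 * uu 3 * uu 4 * uu 5)) * uu 6 * (uu 0 * uu 7) * (uu 0 * uu 10) := by
          rw [((((h2.mul_right h3).mul_right h4).mul_right h5)).eq]; group
      _ = uu 0 * ((uu 2 * uu 3 * uu 4 * uu 5 * uu 6) * uu 0) * uu 7 * (uu 0 * uu 10) := by group
      _ = uu 0 * (uu 0 * (uu 2 * uu 3 * uu 4 * uu 5 * uu 6)) * uu 7 * (uu 0 * uu 10) := by
          rw [(((((h2.mul_right h3).mul_right h4).mul_right h5).mul_right h6)).eq]
      _ = (uu 0 * uu 0) * ((uu 2 * uu 3 * uu 4 * uu 5 * uu 6 * uu 7) * uu 0) * uu 10 := by group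
      _ = (uu 0 * uu 0) * (uu 0 * (uu 2 * uu 3 * uu 4 * uu 5 * uu 6 * uu 7)) * uu 10 := by
          rw [((((((h2.mul_right h3).mul_right h4).mul_right h5).mul_right h6).mul_right h7)).eq]
      _ = uu 0 * (uu 2 * uu 3 * uu 4 * uu 5 * uu 6 * uu 7 * uu 10) := by rw [s]; group
  rw [e, hP.mul_pow, ← hl]
  have : uu 0 ^ 9 = uu 0 := by
    have s : uu 0 ^ 2 = 1 := by rw [pow_two]; exact uu_sq 0
    calc uu 0 ^ 9 = (uu 0 ^ 2) ^ 4 * uu 0 := by rw [← pow_mul, ← pow_succ]
      _ = uu 0 := by rw [s, one_pow, one_mul]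
  rw [this]
  exact uu_sq 0

/-- the images of the products in the quotient are trivial -/
theorem ab_eq_one {k : ℕ} (h : E8 k) : ab k h = 1 := by
  have a23 : ab 2 e2 = ab 3 e3 := ab_adj e2 e3 rfl
  have a34 : ab 3 e3 = ab 4 e4 := ab_adj e3 e4 rfl
  have a45 : ab 4 e4 = ab 5 e5 := ab_adj e4 e5 rfl
  have a56 : ab 5 e5 = ab 6 e6 := ab_adj e5 e6 rfl
  have a67 : ab 6 e6 = ab 7 e7 := ab_adj e6 e7 rfl
  have a510 : ab 5 e5 = ab 10 e10 := ab_adj e5 e10 rfl
  have a1011 : ab 10 e10 = ab 11 e11 := ab_adj e10 e11 rfl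
  -- the relation
  have hrel : (ab 2 e2 * ab 3 e3 * ab 4 e4 * ab 5 e5 * ab 6 e6 * ab 7 e7 * ab 10 e10) ^ 9 = 1 := by
    unfold ab
    rw [← map_mul, ← map_mul, ← map_mul, ← map_mul, ← map_mul, ← map_mul, ← map_pow]
    have e : ((⟨uu 0 * uu 2, m_mem e2⟩ : Qj) * ⟨uu 0 * uu 3, m_mem e3⟩ * ⟨uu 0 * uu 4, m_mem e4⟩ *
        ⟨uu 0 * uu 5, m_mem e5⟩ * ⟨uu 0 * uu 6, m_mem e6⟩ * ⟨uu 0 * uu 7, m_mem e7⟩ *
        ⟨uu 0 * uu 10, m_mem e10⟩) ^ 9 = 1 := by
      apply Subtype.ext
      exact prod_pow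
    rw [e, map_one]
  have hu : ab 5 e5 = 1 := by
    rw [a23, a34, a45, a56.symm, a67.symm, a56.symm, a510.symm] at hrel
    have s := ab_sq e5
    have e : (ab 5 e5 * ab 5 e5 * ab 5 e5 * ab 5 e5 * ab 5 e5 * ab 5 e5 * ab 5 e5) ^ 9 = ab 5 e5 := by
      rw [s, one_mul, s, one_mul, s, one_mul]
      calc ab 5 e5 ^ 9 = (ab 5 e5 * ab 5 e5) ^ 4 * ab 5 e5 := by rw [← pow_two, ← pow_mul, ← pow_succ]
        _ = ab 5 e5 := by rw [s, one_pow, one_mul]
    rw [e] at hrel
    exact hrel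
  have hk : k = 2 ∨ k = 3 ∨ k = 4 ∨ k = 5 ∨ k = 6 ∨ k = 7 ∨ k = 10 ∨ k = 11 := by
    unfold E8 at h
    omega
  rcases hk with rfl | rfl | rfl | rfl | rfl | rfl | rfl | rfl
  · exact (a23.trans (a34.trans a45)).trans hu
  · exact (a34.trans a45).trans hu
  · exact a45.trans hu
  · exact hu
  · exact a56.symm.trans hu
  · exact (a67.symm.trans a56.symm).trans hu
  · exact a510.symm.trans hu
  · exact (a1011.symm.trans a510.symm).trans hu

/-- the products are in the commutator subgroup of the centraliser -/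
theorem m_mem_comm {k : ℕ} (h : E8 k) : uu 0 * uu k ∈ ⁅Qj, Qj⁆ :=
  mem_comm_of_abel (m_mem h) (ab_eq_one h)

end frame

/-- the word of an element which fixes `l` and maps `j` to `a` -/
def h0W : List ℕ := [3, 2, 4, 3, 5, 4, 6, 5, 7, 6, 8, 7, 9, 8]

theorem h0W_lt : ∀ s ∈ h0W, s < 12 := by decide

/-- the element which fixes `l` and maps `j` to `a` -/
noncomputable def hh0 : Fi24 := wprod uu h0W

theorem hh0_conj {k k' : ℕ} (hk : k < 12) (hk' : k' < 12) (h : Fn.applyW TT h0W (qp k) = qp k') :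
    hh0 * uu k * hh0⁻¹ = uu k' := by
  have h1 := isT_conj (isT_gen hk) hh0
  unfold hh0 at h1
  rw [act_word _ h0W_lt (qp_lt k hk), h] at h1
  exact elt_unique h1 (isT_gen hk')

theorem hh0_0 : hh0 * uu 0 * hh0⁻¹ = uu 0 := hh0_conj (by norm_num) (by norm_num) (by decide +kernel)
theorem hh0_9 : hh0 * uu 9 * hh0⁻¹ = uu 2 := hh0_conj (by norm_num) (by norm_num) (by decide +kernel)
theorem hh0_6 : hh0 * uu 6 * hh0⁻¹ = uu 8 := hh0_conj (by norm_num) (by norm_num) (by decide +kernel)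
theorem hh0_7 : hh0 * uu 7 * hh0⁻¹ = uu 9 := hh0_conj (by norm_num) (by norm_num) (by decide +kernel)

theorem conj_mul (c a b : Fi24) : c * (a * b) * c⁻¹ = (c * a * c⁻¹) * (c * b * c⁻¹) := by group

/-- the factors of the product of the generators `l` and `a` -/
theorem fact_la : Fact2 (uu 0) (uu 2) := by
  have h := fact2_conj fact_lj hh0
  rw [hh0_0, hh0_9] at h
  exact h

/-- the conjugate of the commutator subgroup of the centraliser -/
theorem Qj_conj : (⁅Qj, Qj⁆).map (MulAut.conj hh0).toMonoidHom = ⁅CG (uu 0 * uu 2), CG (uu 0 * uu 2)⁆ := by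
  unfold Qj
  rw [Subgroup.map_commutator, CG_conj, conj_mul, hh0_0, hh0_9]

theorem m8_mem : uu 0 * uu 8 ∈ ⁅CG (uu 0 * uu 2), CG (uu 0 * uu 2)⁆ := by
  rw [← Qj_conj]
  refine ⟨uu 0 * uu 6, m_mem_comm e6, ?_⟩
  show hh0 * (uu 0 * uu 6) * hh0⁻¹ = _
  rw [conj_mul, hh0_0, hh0_6]

theorem m9_mem : uu 0 * uu 9 ∈ ⁅CG (uu 0 * uu 2), CG (uu 0 * uu 2)⁆ := by
  rw [← Qj_conj]
  refine ⟨uu 0 * uu 7, m_mem_comm e7, ?_⟩
  show hh0 * (uu 0 * uu 7) * hh0⁻¹ = _
  rw [conj_mul, hh0_0, hh0_7]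

/-- the commutator subgroups of the centralisers of the products are in the centraliser of the common factor -/
theorem comm_CG_le {t t' : Fi24} {p p' : ℕ} (ht : IsT t p) (ht' : IsT t' p') (h : Fact2 t t') :
    ⁅CG (t * t'), CG (t * t')⁆ ≤ CG t := by
  rw [Subgroup.commutator_le]
  intro x hx y hy
  obtain ⟨hx1, hx2⟩ := mem_CG.mp hx
  obtain ⟨hy1, hy2⟩ := mem_CG.mp hy
  refine mem_CG.mpr ⟨comm_of_fact2 ht ht' h hx1 hy1, ?_⟩
  exact (Subgroup.commutator_le.mp (le_refl ⁅commutator Fi24, commutator Fi24⁆) x hx2 y hy2) |>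
    (Subgroup.commutator_le_left (commutator Fi24) (commutator Fi24) ·)

/-- the property of the triple `l`, `j`, `a` -/
theorem PB_lja : PB (uu 0) (uu 9) (uu 2) := by
  unfold PB
  apply le_antisymm
  · refine le_trans CG_l_le ?_
    rw [Subgroup.closure_le]
    rintro x ⟨k, h2, h12, rfl⟩
    by_cases hk : E8 k
    · exact Subgroup.mem_sup_left (m_mem_comm hk)
    · have : k = 8 ∨ k = 9 := by
        unfold E8 at hk
        omega
      rcases this with rfl | rfl
      · exact Subgroup.mem_sup_right m8_mem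
      · exact Subgroup.mem_sup_right m9_mem
  · exact sup_le (comm_CG_le (isT_gen (by norm_num)) (isT_gen (by norm_num)) fact_lj)
      (comm_CG_le (isT_gen (by norm_num)) (isT_gen (by norm_num)) fact_la)

end Cfsg.Agent.Lib.Helper12.OutFi24
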