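import Cfsg.Agent.Lib.Helper12.OutFi24.Rho

/-!
The involutions of the commutator subgroup of the presented group Fi24 which commute with the element of order `11`
are the three products of two of the three transpositions which commute with the element (helper12).
-/

set_option autoImplicit false
set_option maxRecDepth 100000

namespace Cfsg.Agent.Lib.Helper12.OutFi24

open Cfsg.Spor Cfsg.Agent.Lib.Helper12.TC Cfsg.Agent.Lib.Helper12.TCG Cfsg.Agent.Lib.Helper12.TCG.Fi24Pres
  Cfsg.Agent.Lib.Helper12.TCG.Fi24x306936 Cfsg.Agent.Lib.Helper12.Ord Cfsg.Agent.Lib.Helper12.Fi24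
  Cfsg.Agent.Lib.Helper12.Fi24Ex

/-- the three products of two of the three transpositions -/
def IsZ3 (c : Fi24) : Prop := c = uu 11 * tB2 ∨ c = uu 11 * tB3 ∨ c = tB2 * tB3

theorem ci2 : Commute (uu 11) tB2 := i_comm_tB2
theorem ci3 : Commute (uu 11) tB3 := i_comm_tB3
theorem c23 : Commute tB2 tB3 := tB2_comm_tB3

theorem s0_mem : s0 ∈ commutator Fi24 := wprod_mem_comm s0w s0w_lt rfl

theorem mul_mul_of_comm {a b : Fi24} (h : Commute a b) : (a * b) * (a * b) = (a * a) * (b * b) := by
  calc (a * b) * (a * b) = a * (b * a) * b := by group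
    _ = a * (a * b) * b := by rw [h.eq]
    _ = (a * a) * (b * b) := by group

theorem sq_of_comm {a b : Fi24} (h : Commute a b) (ha : a * a = 1) (hb : b * b = 1) : (a * b) * (a * b) = 1 := by
  rw [mul_mul_of_comm h, ha, hb, one_mul]

theorem tB2_sq : tB2 * tB2 = 1 := isT_sq isT_tB2
theorem tB3_sq : tB3 * tB3 = 1 := isT_sq isT_tB3

theorem zz_sq (zi : ℕ) : zz zi * zz zi = 1 := by
  rcases zz_cases zi with h | h | h | h <;> rw [h]
  · exact one_mul 1
  · exact tB2_sq
  · exact tB3_sq
  · exact sq_of_comm c23 tB2_sq tB3_sq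

/-- the sign of the four products -/
theorem sg_zz (zi : ℕ) : (zz zi = 1 ∨ zz zi = tB2 * tB3) ∨ ((zz zi = tB2 ∨ zz zi = tB3) ∧ sg (zz zi) = sgT) := by
  rcases zz_cases zi with h | h | h | h
  · exact Or.inl (Or.inl h)
  · exact Or.inr ⟨Or.inl h, by rw [h]; exact sg_isT isT_tB2⟩
  · exact Or.inr ⟨Or.inr h, by rw [h]; exact sg_isT isT_tB3⟩
  · exact Or.inl (Or.inr h)

/-- the involutions which commute with the element of order `11` and with the generator `i` -/
theorem invol_cent_i {c : Fi24} (hL : c ∈ commutator Fi24) (hs : Commute c s0) (hi : Commute c (uu 11))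
    (h2 : c * c = 1) : c = 1 ∨ IsZ3 c := by
  obtain ⟨k, zi, h⟩ := cent_s0_i hs hi
  -- the element is the product of a power and an involution `z` which commutes with the element of order `11`
  have key : ∀ z : Fi24, Commute z s0 → z * z = 1 → c = s0 ^ k * z → c = z := by
    intro z hz hz2 hc
    have h3 : s0 ^ (2 * k) = 1 := by
      have hzk : Commute (s0 ^ k) z := (hz.symm).pow_left k
      have := mul_mul_of_comm hzk
      rw [← hc, h2, hz2, mul_one, ← pow_add, ← two_mul] at this
      exact this.symm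
    have h4 : 11 ∣ 2 * k := by
      rw [← orderOf_s0]
      exact orderOf_dvd_of_pow_eq_one h3
    have h5 : 11 ∣ k := by omega
    have h6 : s0 ^ k = 1 := by
      obtain ⟨m, rfl⟩ := h5
      rw [pow_mul, s0_pow, one_pow]
    rw [hc, h6, one_mul]
  have hsg := sg_of_mem hL
  have hi2 : uu 11 * uu 11 = 1 := uu_sq 11
  rcases h with h | h
  · have hc := key (zz zi) (zz_comm_s0 zi) (zz_sq zi) h
    rcases sg_zz zi with (h1 | h1) | ⟨_, h1⟩
    · left; rw [hc, h1]
    · right; right; right; rw [hc, h1]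
    · rw [hc, h1] at hsg
      exact absurd hsg sgT_ne
  · have hzi : Commute (zz zi) (uu 11) := zz_comm_i zi
    have hc := key (zz zi * uu 11) ((zz_comm_s0 zi).mul_left s0_comm_i.symm)
      (sq_of_comm hzi (zz_sq zi) hi2) (by rw [h, mul_assoc])
    rcases sg_zz zi with (h1 | h1) | ⟨h1, _⟩
    · rw [hc, h1, one_mul, sg_isT isT_i] at hsg
      exact absurd hsg sgT_ne
    · rw [hc, h1, map_mul, map_mul, sg_isT isT_tB2, sg_isT isT_tB3, sg_isT isT_i, sgT_sq, one_mul] at hsg
      exact absurd hsg sgT_ne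
    · rcases h1 with h1 | h1
      · right; left
        rw [hc, h1, ci2.eq]
      · right; right; left
        rw [hc, h1, ci3.eq]

theorem isZ3_conj {c : Fi24} (h : IsZ3 c) : IsZ3 (rr * c * rr⁻¹) := by
  have e : ∀ a b : Fi24, rr * (a * b) * rr⁻¹ = (rr * a * rr⁻¹) * (rr * b * rr⁻¹) := by intro a b; group
  rcases h with h | h | h <;> rw [h, e]
  · rw [rr_conj_i, rr_conj_tB2]
    exact Or.inr (Or.inl ci3.eq.symm)
  · rw [rr_conj_i, rr_conj_tB3]
    exact Or.inr (Or.inr c23.eq.symm)
  · rw [rr_conj_tB2, rr_conj_tB3]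
    exact Or.inl rfl

theorem isZ3_conj_inv {c : Fi24} (h : IsZ3 c) : IsZ3 (rr⁻¹ * c * rr) := by
  have e : ∀ a b : Fi24, rr⁻¹ * (a * b) * rr = (rr⁻¹ * a * rr) * (rr⁻¹ * b * rr) := by intro a b; group
  rcases h with h | h | h <;> rw [h, e]
  · rw [rr_inv_conj_i, rr_inv_conj_tB2]
    exact Or.inr (Or.inr rfl)
  · rw [rr_inv_conj_i, rr_inv_conj_tB3]
    exact Or.inl ci2.eq.symm
  · rw [rr_inv_conj_tB2, rr_inv_conj_tB3]
    exact Or.inr (Or.inl ci3.eq.symm)

/-- the involutions of the commutator subgroup which commute with the element of order `11` -/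
theorem invol_cent {c : Fi24} (hL : c ∈ commutator Fi24) (hs : Commute c s0) (h2 : c * c = 1) :
    c = 1 ∨ IsZ3 c := by
  have hperm : ∀ p, act s0 p = p → act s0 (act c p) = act c p := by
    intro p h
    rw [← act_mul, ← hs.eq, act_mul, h]
  have hinv : ∀ p, act c (act c p) = p := by
    intro p
    rw [← act_mul, h2, act_one]
  have hne23 : pB2 ≠ pB3 := by decide
  have hneI2 : pI ≠ pB2 := by decide
  have hneI3 : pI ≠ pB3 := by decide
  -- the conjugates of the element
  have hcj : ∀ x : Fi24, Commute x s0 → (x * c * x⁻¹ ∈ commutator Fi24 ∧ Commute (x * c * x⁻¹) s0 ∧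
      (x * c * x⁻¹) * (x * c * x⁻¹) = 1) := by
    intro x hx
    refine ⟨(inferInstance : (commutator Fi24).Normal).conj_mem c hL x, (hx.mul_left hs).mul_left hx.inv_left, ?_⟩
    calc (x * c * x⁻¹) * (x * c * x⁻¹) = x * (c * c) * x⁻¹ := by group
      _ = 1 := by rw [h2]; group
  -- an element which fixes one of the other two points
  have case2 : act c pB2 = pB2 → c = 1 ∨ IsZ3 c := by
    intro h
    obtain ⟨h1, h3, h4⟩ := hcj rr rr_comm_s0
    have h5 : Commute (rr * c * rr⁻¹) (uu 11) := by
      apply (comm_iff isT_i _).mpr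
      rw [act_mul, act_mul, ← rr_pB2, act_inv_act, h]
    rcases invol_cent_i h1 h3 h5 h4 with h6 | h6
    · left
      calc c = rr⁻¹ * (rr * c * rr⁻¹) * rr := by group
        _ = 1 := by rw [h6]; group
    · right
      have := isZ3_conj_inv h6
      have e : rr⁻¹ * (rr * c * rr⁻¹) * rr = c := by group
      rw [e] at this
      exact this
  have case3 : act c pB3 = pB3 → c = 1 ∨ IsZ3 c := by
    intro h
    obtain ⟨h1, h3, h4⟩ := hcj rr⁻¹ rr_comm_s0.inv_left
    rw [inv_inv] at h1 h3 h4
    have h5 : Commute (rr⁻¹ * c * rr) (uu 11) := by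
      apply (comm_iff isT_i _).mpr
      have e : act rr pI = pB3 := rr_pI
      rw [act_mul, act_mul, e, h, ← e, act_inv_act]
    rcases invol_cent_i h1 h3 h5 h4 with h6 | h6
    · left
      calc c = rr * (rr⁻¹ * c * rr) * rr⁻¹ := by group
        _ = 1 := by rw [h6]; group
    · right
      have := isZ3_conj h6
      have e : rr * (rr⁻¹ * c * rr) * rr⁻¹ = c := by group
      rw [e] at this
      exact this
  rcases fix_s0 (act_lt c pI_lt) (hperm pI s0_fix_pI) with h | h | h
  · exact invol_cent_i hL hs ((comm_iff isT_i c).mpr h) h2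
  · have h' : act c pB2 = pI := by rw [← h, hinv]
    apply case3
    rcases fix_s0 (act_lt c pB3_lt) (hperm pB3 s0_fix_pB3) with h4 | h4 | h4
    · exact absurd (act_injective c (h4.trans h'.symm)).symm hne23
    · exact absurd (act_injective c (h4.trans h.symm)).symm hneI3
    · exact h4
  · have h' : act c pB3 = pI := by rw [← h, hinv]
    apply case2
    rcases fix_s0 (act_lt c pB2_lt) (hperm pB2 s0_fix_pB2) with h4 | h4 | h4
    · exact absurd (act_injective c (h4.trans h'.symm)) hne23
    · exact h4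
    · exact absurd (act_injective c (h4.trans h.symm)).symm hneI2

end Cfsg.Agent.Lib.Helper12.OutFi24
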