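import Cfsg.Agent.Lib.Helper12.OutFi24.Star
import Cfsg.Agent.Lib.Helper12.OutFi23.Main

/-!
An automorphism of the commutator subgroup of the presented group Fi24 which maps the centraliser of the first
generator to itself acts on this centraliser as the conjugation by one of its elements: the centraliser is a copy of
the presented group Fi23, whose automorphisms are inner (helper12).
-/

set_option autoImplicit false
set_option maxRecDepth 100000

namespace Cfsg.Agent.Lib.Helper12.OutFi24

open Cfsg.Spor Cfsg.Agent.Lib.Helper12.TC Cfsg.Agent.Lib.Helper12.TCG Cfsg.Agent.Lib.Helper12.TCG.Fi24Pres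
  Cfsg.Agent.Lib.Helper12.TCG.Fi24x306936 Cfsg.Agent.Lib.Helper12.Ord Cfsg.Agent.Lib.Helper12.Fi24
  Cfsg.Agent.Lib.Helper12.Fi24Ex

/-- an automorphism which maps a subgroup with inner automorphisms only to itself is a conjugation on the
subgroup -/
theorem inner_on_of_equiv {H : Type*} [Group H] (hH : Cfsg.Inn H = ⊤) (M : Subgroup LG) (e : M ≃* H)
    (γ : MulAut LG) (hγ : mapA γ M = M) : ∃ m : LG, m ∈ M ∧ ∀ y ∈ M, γ y = m * y * m⁻¹ := by
  have hmem : ∀ y : M, γ y ∈ M := by
    intro y
    have h : γ (y : LG) ∈ mapA γ M := mem_mapA.mpr ⟨y, y.2, rfl⟩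
    rw [hγ] at h
    exact h
  let γM : M →* M :=
    { toFun := fun y => ⟨γ (y : LG), hmem y⟩
      map_one' := by
        apply Subtype.ext
        show γ ((1 : M) : LG) = ((1 : M) : LG)
        rw [Subgroup.coe_one, map_one]
      map_mul' := by
        intro a b
        apply Subtype.ext
        show γ ((a * b : M) : LG) = γ (a : LG) * γ (b : LG)
        rw [Subgroup.coe_mul, map_mul] }
  have hinj : Function.Injective γM := by
    intro a b hab
    apply Subtype.ext
    apply γ.injective
    exact congrArg Subtype.val hab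
  have hsurj : Function.Surjective γM := by
    intro y
    have hy : (y : LG) ∈ mapA γ M := by rw [hγ]; exact y.2
    obtain ⟨x, hx, hxy⟩ := mem_mapA.mp hy
    exact ⟨⟨x, hx⟩, Subtype.ext hxy⟩
  let θ : MulAut H := e.symm.trans ((MulEquiv.ofBijective γM ⟨hinj, hsurj⟩).trans e)
  have hθ : θ ∈ Cfsg.Inn H := by rw [hH]; exact Subgroup.mem_top _
  obtain ⟨h, hh⟩ := hθ
  refine ⟨e.symm h, (e.symm h).2, ?_⟩
  intro y hy
  have h1 : θ (e ⟨y, hy⟩) = h * e ⟨y, hy⟩ * h⁻¹ := by
    rw [← hh]
    rfl
  have h2 : θ (e ⟨y, hy⟩) = e (γM ⟨y, hy⟩) := by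
    show e (γM (e.symm (e ⟨y, hy⟩))) = _
    rw [MulEquiv.symm_apply_apply]
  rw [h2] at h1
  have h3 := congrArg e.symm h1
  rw [MulEquiv.symm_apply_apply, map_mul, map_mul, map_inv, MulEquiv.symm_apply_apply] at h3
  exact congrArg Subtype.val h3

/-- the presented group Fi23 is a copy of the quotient of the centraliser -/
theorem exists_equiv_quot : Nonempty (Fi23 ≃* Hs ⧸ L) := by
  obtain ⟨φ, hφ⟩ := exists_hom_surjective spider'
  have hs : IsSimpleGroup Fi23 := Cfsg.Agent.Lib.Helper12.Ord.Fi23Simple.isSimpleGroup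
  have hnt : Nontrivial (Hs ⧸ L) := nontrivial_quot ha1 hal
  have hinj : Function.Injective φ := by
    rw [← MonoidHom.ker_eq_bot_iff]
    rcases hs.eq_bot_or_eq_top_of_normal φ.ker inferInstance with h | h
    · exact h
    · exfalso
      obtain ⟨a, b, hab⟩ := hnt
      obtain ⟨a', rfl⟩ := hφ a
      obtain ⟨b', rfl⟩ := hφ b
      have ha : a' ∈ φ.ker := by rw [h]; exact Subgroup.mem_top _
      have hb : b' ∈ φ.ker := by rw [h]; exact Subgroup.mem_top _
      rw [MonoidHom.mem_ker] at ha hb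
      exact hab (ha.trans hb.symm)
  exact ⟨MulEquiv.ofBijective φ ⟨hinj, hφ⟩⟩

theorem CG_zero : CG (uu 0) = K23 := by
  unfold CG K23
  rw [uu_zero, centralizer_tt]

/-- the centraliser of the first generator in the commutator subgroup is a copy of the presented group Fi23 -/
theorem exists_equiv_CL : Nonempty (↥(CL (uu 0)) ≃* Fi23) := by
  obtain ⟨e⟩ := exists_equiv_quot
  exact ⟨((Subgroup.subgroupOfEquivOfLe (CG_le (uu 0))).trans
    ((MulEquiv.subgroupCongr CG_zero).trans equivK23)).trans e.symm⟩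

/-- an automorphism which maps the centraliser of the first generator to itself is a conjugation on it -/
theorem inner_on_CL (γ : MulAut LG) (hγ : mapA γ (CL (uu 0)) = CL (uu 0)) :
    ∃ m : LG, Commute (m : Fi24) (uu 0) ∧ ∀ y : LG, Commute (y : Fi24) (uu 0) → γ y = m * y * m⁻¹ := by
  obtain ⟨e⟩ := exists_equiv_CL
  obtain ⟨m, hm, h⟩ := inner_on_of_equiv Cfsg.Agent.Lib.Helper12.OutFi23.Main.inn_eq_top (CL (uu 0)) e γ hγ
  exact ⟨m, mem_CL.mp hm, fun y hy => h y (mem_CL.mpr hy)⟩

end Cfsg.Agent.Lib.Helper12.OutFi24
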