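import Cfsg.Agent.Lib.Helper12.OutFi24.PBFrame

/-!
The automorphisms of the commutator subgroup of the presented group Fi24: the images of subgroups, the centralisers
of elements of the group, and the conjugations by elements of the group (helper12).
-/

set_option autoImplicit false
set_option maxRecDepth 100000

namespace Cfsg.Agent.Lib.Helper12.OutFi24

open Cfsg.Spor Cfsg.Agent.Lib.Helper12.TC Cfsg.Agent.Lib.Helper12.TCG Cfsg.Agent.Lib.Helper12.TCG.Fi24Pres
  Cfsg.Agent.Lib.Helper12.TCG.Fi24x306936 Cfsg.Agent.Lib.Helper12.Ord Cfsg.Agent.Lib.Helper12.Fi24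
  Cfsg.Agent.Lib.Helper12.Fi24Ex

open scoped commutatorElement

/-- the commutator subgroup as a group -/
abbrev LG : Type := ↥(commutator Fi24)

/-- the conjugation of the commutator subgroup by an element of the group -/
noncomputable def cj : Fi24 →* MulAut LG := MulAut.conjNormal

theorem cj_apply (c : Fi24) (x : LG) : ((cj c x : LG) : Fi24) = c * x * c⁻¹ := MulAut.conjNormal_apply c x

theorem commute_coe_iff {a b : LG} : Commute (a : Fi24) (b : Fi24) ↔ Commute a b := by
  constructor
  · intro h
    exact Subtype.ext h.eq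
  · intro h
    exact congrArg Subtype.val h.eq

/-- the image of a subgroup under an automorphism -/
noncomputable def mapA (α : MulAut LG) (H : Subgroup LG) : Subgroup LG := H.map α.toMonoidHom

theorem mem_mapA {α : MulAut LG} {H : Subgroup LG} {y : LG} : y ∈ mapA α H ↔ ∃ x ∈ H, α x = y :=
  Subgroup.mem_map

theorem mapA_mul (a b : MulAut LG) (H : Subgroup LG) : mapA (a * b) H = mapA a (mapA b H) := by
  unfold mapA
  rw [Subgroup.map_map]
  rfl

theorem mapA_one (H : Subgroup LG) : mapA 1 H = H := by
  ext y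
  rw [mem_mapA]
  constructor
  · rintro ⟨x, hx, rfl⟩
    exact hx
  · intro hy
    exact ⟨y, hy, rfl⟩

theorem mapA_sup (α : MulAut LG) (H K : Subgroup LG) : mapA α (H ⊔ K) = mapA α H ⊔ mapA α K :=
  Subgroup.map_sup H K _

theorem mapA_comm (α : MulAut LG) (H K : Subgroup LG) : mapA α ⁅H, K⁆ = ⁅mapA α H, mapA α K⁆ :=
  Subgroup.map_commutator H K _

/-- the centraliser of an element of the group in the commutator subgroup -/
noncomputable def CL (x : Fi24) : Subgroup LG := (CG x).subgroupOf (commutator Fi24)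

theorem mem_CL {x : Fi24} {y : LG} : y ∈ CL x ↔ Commute (y : Fi24) x := by
  unfold CL
  rw [Subgroup.mem_subgroupOf, mem_CG]
  constructor
  · exact fun h => h.1
  · exact fun h => ⟨h, y.2⟩

theorem CL_map_subtype (x : Fi24) : (CL x).map (commutator Fi24).subtype = CG x :=
  Subgroup.map_subgroupOf_eq_of_le (CG_le x)

/-- the image of the centraliser of an element of the commutator subgroup -/
theorem mapA_CL (α : MulAut LG) (z : LG) : mapA α (CL (z : Fi24)) = CL ((α z : LG) : Fi24) := by
  ext y
  rw [mem_mapA, mem_CL]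
  constructor
  · rintro ⟨x, hx, rfl⟩
    rw [mem_CL, commute_coe_iff] at hx
    rw [commute_coe_iff]
    exact hx.map α
  · intro h
    refine ⟨α⁻¹ y, ?_, ?_⟩
    · rw [mem_CL, commute_coe_iff]
      rw [commute_coe_iff] at h
      have := h.map (α⁻¹ : MulAut LG)
      rw [MulAut.inv_apply_self] at this
      exact this
    · exact MulAut.apply_inv_self _ _ _

/-- the image of a centraliser under a conjugation -/
theorem mapA_cj_CL (c x : Fi24) : mapA (cj c) (CL x) = CL (c * x * c⁻¹) := by
  ext y
  rw [mem_mapA, mem_CL]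
  constructor
  · rintro ⟨w, hw, rfl⟩
    rw [mem_CL] at hw
    rw [cj_apply]
    exact (conj_comm_iff c _ _).mpr hw.eq
  · intro h
    refine ⟨(cj c)⁻¹ y, ?_, MulAut.apply_inv_self _ _ _⟩
    rw [mem_CL]
    have e : (((cj c)⁻¹ y : LG) : Fi24) = c⁻¹ * y * c := MulAut.conjNormal_inv_apply c y
    rw [e]
    show (c⁻¹ * y * c) * x = x * (c⁻¹ * y * c)
    have e1 : (c⁻¹ * (y : Fi24) * c) * x = c⁻¹ * (y * (c * x * c⁻¹)) * c := by group
    have e2 : x * (c⁻¹ * (y : Fi24) * c) = c⁻¹ * ((c * x * c⁻¹) * y) * c := by group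
    rw [e1, e2, h.eq]

/-- the property of a triple of transpositions, in the commutator subgroup -/
theorem PBL_of_PB {t t' t'' : Fi24} (h : PB t t' t'') :
    CL t = ⁅CL (t * t'), CL (t * t')⁆ ⊔ ⁅CL (t * t''), CL (t * t'')⁆ := by
  apply Subgroup.map_injective (commutator Fi24).subtype_injective
  rw [CL_map_subtype, Subgroup.map_sup, Subgroup.map_commutator, Subgroup.map_commutator, CL_map_subtype,
    CL_map_subtype]
  exact h

/-- the image of the centraliser of the first transposition of a triple with the property -/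
theorem mapA_CL_of_PB (β : MulAut LG) {t t' t'' u u' u'' : Fi24} (h : PB t t' t'') (h' : PB u u' u'')
    (z' z'' : LG) (hz' : (z' : Fi24) = t * t') (hz'' : (z'' : Fi24) = t * t'')
    (hb' : ((β z' : LG) : Fi24) = u * u') (hb'' : ((β z'' : LG) : Fi24) = u * u'') :
    mapA β (CL t) = CL u := by
  rw [PBL_of_PB h, PBL_of_PB h', mapA_sup, mapA_comm, mapA_comm, ← hz', ← hz'', mapA_CL, mapA_CL, hb', hb'']

end Cfsg.Agent.Lib.Helper12.OutFi24
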