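import Cfsg.Agent.Lib.Helper12.OutFi24.Equivar

/-!
The automorphisms of the commutator subgroup of the presented group Fi24 are the conjugations by the elements of the
group, and the outer automorphism group has order `2` (helper12).
-/

set_option autoImplicit false
set_option maxRecDepth 100000

namespace Cfsg.Agent.Lib.Helper12.OutFi24

open Cfsg.Spor Cfsg.Agent.Lib.Helper12.TC Cfsg.Agent.Lib.Helper12.TCG Cfsg.Agent.Lib.Helper12.TCG.Fi24Pres
  Cfsg.Agent.Lib.Helper12.TCG.Fi24x306936 Cfsg.Agent.Lib.Helper12.Ord Cfsg.Agent.Lib.Helper12.Fi24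
  Cfsg.Agent.Lib.Helper12.Fi24Ex

theorem eq_of_mul_eq_one {Γ : Type*} [Group Γ] {x a b α : Γ} (h : x * (a * α * b) = 1) :
    α = a⁻¹ * x⁻¹ * b⁻¹ := by
  calc α = a⁻¹ * x⁻¹ * (x * (a * α * b)) * b⁻¹ := by group
    _ = a⁻¹ * x⁻¹ * b⁻¹ := by rw [h, mul_one]

theorem cj_eq_of (x a b : Fi24) (α : MulAut LG) (h : cj x * (cj a * α * cj b) = 1) :
    cj (a⁻¹ * x⁻¹ * b⁻¹) = α := by
  rw [map_mul, map_mul, map_inv, map_inv, map_inv]
  exact (eq_of_mul_eq_one h).symm

/-- every automorphism of the commutator subgroup is the conjugation by an element of the group -/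
theorem cj_surjective : Function.Surjective cj := by
  intro α
  obtain ⟨a, b, h⟩ := star α
  obtain ⟨m, hm, hin⟩ := inner_on_CL (cj a * α * cj b) h
  have hδ : ∀ y : LG, Commute (y : Fi24) (uu 0) → (cj ((m : Fi24)⁻¹) * (cj a * α * cj b)) y = y := by
    intro y hy
    rw [MulAut.mul_apply, hin y hy]
    apply Subtype.ext
    rw [cj_apply, Subgroup.coe_mul, Subgroup.coe_mul, Subgroup.coe_inv]
    group
  rcases equivar _ hδ with h1 | h1
  · exact ⟨_, cj_eq_of _ a b α h1⟩
  · rw [← mul_assoc, ← map_mul] at h1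
    exact ⟨_, cj_eq_of _ a b α h1⟩

theorem not_comm_chk : Nat.beq (Fn.applyW TT [1, 0, 0, 2] 0) (Fn.applyW TT [0, 2, 1, 0] 0) = false := by
  decide +kernel

/-- the centraliser of the commutator subgroup is trivial -/
theorem cj_injective : Function.Injective cj := by
  rw [← MonoidHom.ker_eq_bot_iff]
  rcases normal_subgroups rho rho_core rho_a_ne rho_l_ne rho_a_ne_l spider' isCoatom_Hs cj.ker inferInstance
    with h | h
  · exact h
  · exfalso
    have hx : uu 1 * uu 0 ∈ commutator Fi24 := isT_mul_mem (isT_gen (by norm_num)) (isT_gen (by norm_num))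
    have hy : uu 0 * uu 2 ∈ commutator Fi24 := isT_mul_mem (isT_gen (by norm_num)) (isT_gen (by norm_num))
    have h1 : cj (uu 1 * uu 0) = 1 := MonoidHom.mem_ker.mp (h hx)
    have h2 : ((cj (uu 1 * uu 0) ⟨uu 0 * uu 2, hy⟩ : LG) : Fi24) = uu 0 * uu 2 := by rw [h1]; rfl
    rw [cj_apply] at h2
    have h3 : (uu 1 * uu 0) * (uu 0 * uu 2) = (uu 0 * uu 2) * (uu 1 * uu 0) := by
      calc (uu 1 * uu 0) * (uu 0 * uu 2) = ((uu 1 * uu 0) * (uu 0 * uu 2) * (uu 1 * uu 0)⁻¹) * (uu 1 * uu 0) := by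
            group
        _ = (uu 0 * uu 2) * (uu 1 * uu 0) := by rw [h2]
    have h4 : act ((uu 1 * uu 0) * (uu 0 * uu 2)) 0 = act ((uu 0 * uu 2) * (uu 1 * uu 0)) 0 := by rw [h3]
    have w1 : ∀ s ∈ [1, 0, 0, 2], s < 12 := by decide
    have w2 : ∀ s ∈ [0, 2, 1, 0], s < 12 := by decide
    have e1 : (uu 1 * uu 0) * (uu 0 * uu 2) = wprod uu [1, 0, 0, 2] := by
      rw [wprod_cons, wprod_cons, wprod_cons, wprod_cons, wprod_nil, mul_one]
      group
    have e2 : (uu 0 * uu 2) * (uu 1 * uu 0) = wprod uu [0, 2, 1, 0] := by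
      rw [wprod_cons, wprod_cons, wprod_cons, wprod_cons, wprod_nil, mul_one]
      group
    rw [e1, e2, act_word _ w1 hN0, act_word _ w2 hN0] at h4
    have h5 := not_comm_chk
    rw [h4, Nat.beq_refl] at h5
    exact Bool.noConfusion h5

/-- the inner automorphisms are the conjugations by the elements of the commutator subgroup -/
theorem inn_eq_map : Cfsg.Inn LG = (commutator Fi24).map cj := by
  ext y
  constructor
  · rintro ⟨x, rfl⟩
    refine ⟨(x : Fi24), x.2, ?_⟩
    exact MulAut.conjNormal_val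
  · rintro ⟨x, hx, rfl⟩
    refine ⟨⟨x, hx⟩, ?_⟩
    exact (MulAut.conjNormal_val (h := (⟨x, hx⟩ : LG))).symm

/-- the outer automorphism group of the commutator subgroup has order `2` -/
theorem card_out : Nat.card (Cfsg.Out Cfsg.Spor.Fi24') = 2 := by
  show Nat.card (MulAut LG ⧸ Cfsg.Inn LG) = 2
  rw [← Subgroup.index_eq_card, inn_eq_map, Subgroup.index_map_of_bijective ⟨cj_injective, cj_surjective⟩]
  exact Cfsg.Agent.S1691.result

end Cfsg.Agent.Lib.Helper12.OutFi24
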