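import Cfsg.Agent.Lib.Helper12.OutFi24.Gen

/-!
The property of the triples of the three transpositions of the presented group Fi24 which commute with the element
of order `11` (helper12).
-/

set_option autoImplicit false
set_option maxRecDepth 100000

namespace Cfsg.Agent.Lib.Helper12.OutFi24

open Cfsg.Spor Cfsg.Agent.Lib.Helper12.TC Cfsg.Agent.Lib.Helper12.TCG Cfsg.Agent.Lib.Helper12.TCG.Fi24Pres
  Cfsg.Agent.Lib.Helper12.TCG.Fi24x306936 Cfsg.Agent.Lib.Helper12.Ord Cfsg.Agent.Lib.Helper12.Fi24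
  Cfsg.Agent.Lib.Helper12.Fi24Ex

/-- the word of an element which maps the generators `l`, `j`, `a` to the three transpositions -/
def g1W : List ℕ :=
  [10, 11, 5, 10, 4, 5, 3, 4, 2, 3, 1, 2, 0, 1, 3, 2, 4, 5, 6, 7, 6, 5, 10, 5, 4, 3, 6, 5, 7, 6, 8, 7, 11,
  10, 5, 4, 3, 2, 6, 5, 4, 3, 7, 6, 10, 5, 4, 11, 10, 5, 6, 7, 8, 2, 3, 6, 5, 4, 7, 6, 5, 4, 10, 11, 8, 7, 6,
  5, 10, 9, 8, 7, 6, 5, 4, 3, 1, 2, 0, 1, 0, 1, 0, 2, 1, 3, 4, 5, 6, 7, 8, 9, 10, 5, 6, 7, 8]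

theorem g1W_lt : ∀ s ∈ g1W, s < 12 := by decide

/-- the element which maps the generators `l`, `j`, `a` to the three transpositions -/
noncomputable def gg1 : Fi24 := wprod uu g1W

theorem gg1_0 : gg1 * uu 0 * gg1⁻¹ = uu 11 := by
  have h1 := isT_conj (isT_gen (by norm_num : 0 < 12)) gg1
  unfold gg1 at h1
  rw [act_word _ g1W_lt (qp_lt 0 (by norm_num))] at h1
  have e : Fn.applyW TT g1W (qp 0) = pI := by decide +kernel
  rw [e] at h1
  exact elt_unique h1 isT_i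

theorem gg1_9 : gg1 * uu 9 * gg1⁻¹ = tB2 := by
  have h1 := isT_conj (isT_gen (by norm_num : 9 < 12)) gg1
  unfold gg1 at h1
  rw [act_word _ g1W_lt (qp_lt 9 (by norm_num))] at h1
  have e : Fn.applyW TT g1W (qp 9) = pB2 := by decide +kernel
  rw [e] at h1
  exact elt_unique h1 isT_tB2

theorem gg1_2 : gg1 * uu 2 * gg1⁻¹ = tB3 := by
  have h1 := isT_conj (isT_gen (by norm_num : 2 < 12)) gg1
  unfold gg1 at h1
  rw [act_word _ g1W_lt (qp_lt 2 (by norm_num))] at h1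
  have e : Fn.applyW TT g1W (qp 2) = pB3 := by decide +kernel
  rw [e] at h1
  exact elt_unique h1 isT_tB3

theorem PB_i : PB (uu 11) tB2 tB3 := by
  have h := PB_conj PB_lja gg1
  rw [gg1_0, gg1_9, gg1_2] at h
  exact h

theorem PB_3 : PB tB3 (uu 11) tB2 := by
  have h := PB_conj PB_i rr
  rw [rr_conj_i, rr_conj_tB2, rr_conj_tB3] at h
  exact h

theorem PB_2 : PB tB2 tB3 (uu 11) := by
  have h := PB_conj PB_3 rr
  rw [rr_conj_i, rr_conj_tB2, rr_conj_tB3] at h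
  exact h

end Cfsg.Agent.Lib.Helper12.OutFi24
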