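import Cfsg.Agent.Lib.Helper12.OutFi24.Transp

/-!
The parity of the elements of the presented group Fi24: the commutator subgroup consists of the products of an even
number of generators (helper12).
-/

set_option autoImplicit false
set_option maxRecDepth 100000

namespace Cfsg.Agent.Lib.Helper12.OutFi24

open Cfsg.Spor Cfsg.Agent.Lib.Helper12.TC Cfsg.Agent.Lib.Helper12.TCG Cfsg.Agent.Lib.Helper12.TCG.Fi24Pres
  Cfsg.Agent.Lib.Helper12.TCG.Fi24x306936 Cfsg.Agent.Lib.Helper12.Ord Cfsg.Agent.Lib.Helper12.Fi24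
  Cfsg.Agent.Lib.Helper12.Fi24Ex

/-- the sign of an element -/
noncomputable def sg : Fi24 →* Multiplicative (ZMod 2) := Cfsg.Agent.S1691.sgn

/-- the nontrivial sign -/
def sgT : Multiplicative (ZMod 2) := Cfsg.Agent.S1691.tt

theorem sgT_ne : sgT ≠ 1 := by decide

theorem sgT_sq : sgT * sgT = 1 := by decide

theorem sg_cases (x : Fi24) : sg x = 1 ∨ sg x = sgT := by
  have : ∀ z : Multiplicative (ZMod 2), z = 1 ∨ z = sgT := by decide
  exact this _

theorem sg_uu {k : ℕ} (hk : k < 12) : sg (uu k) = sgT := by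
  rw [uu_gen hk]
  interval_cases k <;> exact Cfsg.Agent.S1691.sgn_of _

theorem sg_tt : sg tt = sgT := Cfsg.Agent.S1691.sgn_of _

theorem comm_le_ker : commutator Fi24 ≤ sg.ker := Abelianization.commutator_subset_ker _

theorem sg_of_mem {x : Fi24} (hx : x ∈ commutator Fi24) : sg x = 1 := MonoidHom.mem_ker.mp (comm_le_ker hx)

theorem mul_mem_comm_iff (a b : Fi24) : a * b ∈ commutator Fi24 ↔ (a ∈ commutator Fi24 ↔ b ∈ commutator Fi24) :=
  Subgroup.mul_mem_iff_of_index_two Cfsg.Agent.S1691.result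

theorem tt_not_mem : tt ∉ commutator Fi24 := l_not_mem_commutator

/-- the commutator subgroup is the kernel of the sign -/
theorem mem_comm_iff (x : Fi24) : x ∈ commutator Fi24 ↔ sg x = 1 := by
  constructor
  · exact sg_of_mem
  · intro h
    by_contra hx
    have h1 : x * tt ∈ commutator Fi24 := (mul_mem_comm_iff x tt).mpr ⟨fun h => absurd h hx, fun h => absurd h tt_not_mem⟩
    have h2 := sg_of_mem h1
    rw [map_mul, h, one_mul, sg_tt] at h2
    exact sgT_ne h2

theorem sg_isT {e : Fi24} {p : ℕ} (h : IsT e p) : sg e = sgT := by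
  obtain ⟨c, rfl, _⟩ := h
  rw [map_mul, map_mul, map_inv, sg_tt, mul_comm, ← mul_assoc, inv_mul_cancel, one_mul]

theorem isT_not_mem {e : Fi24} {p : ℕ} (h : IsT e p) : e ∉ commutator Fi24 := by
  intro hm
  have := sg_of_mem hm
  rw [sg_isT h] at this
  exact sgT_ne this

theorem isT_mul_mem {e e' : Fi24} {p p' : ℕ} (h : IsT e p) (h' : IsT e' p') : e * e' ∈ commutator Fi24 := by
  rw [mem_comm_iff, map_mul, sg_isT h, sg_isT h', sgT_sq]

/-- the sign of a word -/
theorem sg_wprod (w : List ℕ) (hw : ∀ s ∈ w, s < 12) : sg (wprod uu w) = sgT ^ w.length := by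
  induction w with
  | nil => rw [wprod_nil, map_one, List.length_nil, pow_zero]
  | cons s l ih =>
    rw [wprod_cons, map_mul, sg_uu (hw s List.mem_cons_self), ih (fun t ht => hw t (List.mem_cons_of_mem _ ht)),
      List.length_cons, pow_succ']

theorem sgT_pow_even {n : ℕ} (h : n % 2 = 0) : sgT ^ n = 1 := by
  obtain ⟨m, rfl⟩ : ∃ m, n = 2 * m := ⟨n / 2, by omega⟩
  rw [pow_mul, pow_two, sgT_sq, one_pow]

theorem sgT_pow_odd {n : ℕ} (h : n % 2 = 1) : sgT ^ n = sgT := by
  obtain ⟨m, rfl⟩ : ∃ m, n = 2 * m + 1 := ⟨n / 2, by omega⟩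
  rw [pow_succ, pow_mul, pow_two, sgT_sq, one_pow, one_mul]

/-- the words of even length are in the commutator subgroup -/
theorem wprod_mem_comm (w : List ℕ) (hw : ∀ s ∈ w, s < 12) (h : w.length % 2 = 0) :
    wprod uu w ∈ commutator Fi24 := by
  rw [mem_comm_iff, sg_wprod w hw, sgT_pow_even h]

/-- the words of odd length are not in the commutator subgroup -/
theorem wprod_not_mem_comm (w : List ℕ) (hw : ∀ s ∈ w, s < 12) (h : w.length % 2 = 1) :
    wprod uu w ∉ commutator Fi24 := by
  rw [mem_comm_iff, sg_wprod w hw, sgT_pow_odd h]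
  exact sgT_ne

/-- an element or its product with the first generator is in the commutator subgroup -/
theorem mem_or_mul_tt_mem (x : Fi24) : x ∈ commutator Fi24 ∨ x * tt ∈ commutator Fi24 := by
  by_cases hx : x ∈ commutator Fi24
  · exact Or.inl hx
  · exact Or.inr ((mul_mem_comm_iff x tt).mpr ⟨fun h => absurd h hx, fun h => absurd h tt_not_mem⟩)

end Cfsg.Agent.Lib.Helper12.OutFi24
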