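import Cfsg.Agent.Lib.Helper12.OutFi24.Cent2
import Cfsg.Agent.Lib.Helper12.OutFi24.Par

/-!
An element of the presented group Fi24 which commutes with the element of order `11` and permutes its three fixed
points in a cycle (helper12).
-/

set_option autoImplicit false
set_option maxRecDepth 100000

namespace Cfsg.Agent.Lib.Helper12.OutFi24

open Cfsg.Spor Cfsg.Agent.Lib.Helper12.TC Cfsg.Agent.Lib.Helper12.TCG Cfsg.Agent.Lib.Helper12.TCG.Fi24Pres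
  Cfsg.Agent.Lib.Helper12.TCG.Fi24x306936 Cfsg.Agent.Lib.Helper12.Ord Cfsg.Agent.Lib.Helper12.Fi24
  Cfsg.Agent.Lib.Helper12.Fi24Ex

/-- the word of the element -/
def rhoW : List ℕ :=
  [4, 5, 10, 8, 7, 6, 5, 4, 3, 2, 0, 1, 0, 1, 0, 2, 3, 4, 5, 6, 7, 8, 10, 5, 4, 10, 8, 6, 7, 5, 6, 4, 5, 10,
  9, 8, 7, 6, 5, 4, 3, 1, 2, 0, 1, 0, 1, 0, 2, 1, 3, 4, 5, 6, 7, 8, 9, 10, 5, 4, 6, 5, 7, 6, 8, 10, 0, 5, 10,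
  6, 7, 5, 6, 4, 5, 10, 8, 7, 6, 5, 4, 2, 3, 1, 2, 0, 1, 0, 1, 0, 2, 1, 3, 2, 4, 5, 6, 7, 8, 10, 5, 4, 6, 5,
  7, 6, 10, 5, 6, 5, 10, 8, 7, 6, 5, 3, 4, 2, 3, 1, 2, 0, 1, 0, 1, 0, 2, 1, 3, 2, 4, 3, 5, 6, 7, 8, 10, 5, 6,
  5, 3, 4, 2, 3, 1, 2, 0, 1, 0, 1, 0, 2, 1, 3, 2, 4, 3, 5, 4, 5, 3, 4, 2, 3, 1, 2, 0, 1, 0, 1, 0, 2, 1, 3, 2,
  4, 3, 5, 4, 7, 5, 6, 4, 5, 3, 4, 2, 3, 1, 2, 0, 1, 0, 1, 0, 2, 1, 3, 2, 4, 3, 5, 4, 6, 5, 7, 6, 5, 10, 4,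
  5, 6, 3, 4, 5, 10, 7, 8, 6, 7, 5, 6, 4, 5, 10, 9, 8, 7, 6, 5, 4, 2, 3, 1, 2, 0, 1, 0, 1, 0, 2, 1, 3, 2, 4,
  5, 6, 7, 8, 9, 10, 5, 4, 6, 5, 7, 6, 8, 7, 10, 5, 4, 3, 6, 5, 4, 10, 5, 6, 9, 7, 8, 6, 7, 5, 6, 4, 5, 3, 4,
  2, 3, 1, 2, 0, 1, 0, 1, 0, 2, 1, 3, 2, 4, 3, 5, 4, 6, 5, 7, 6, 8, 7, 9, 8, 9, 7, 8, 6, 7, 5, 6, 4, 5, 3, 4,
  2, 3, 1, 2, 0, 1, 0, 1, 0, 2, 1, 3, 2, 4, 3, 5, 4, 6, 5, 7, 6, 8, 7, 9, 8, 9, 8, 7, 6, 5, 10, 4, 5, 6, 3,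
  4, 5, 10, 7, 8, 6, 7, 5, 6, 4, 5, 10, 9, 8, 7, 6, 5, 4, 2, 3, 1, 2, 0, 1, 0, 1, 0, 2, 1, 3, 2, 4, 5, 6, 7,
  8, 9, 10, 5, 4, 6, 5, 7, 6, 8, 7, 10, 5, 4, 3, 6, 5, 4, 10, 5, 6, 7, 8, 9]

theorem rhoW_lt : ∀ s ∈ rhoW, s < 12 := by decide

/-- the element which permutes the three fixed points -/
noncomputable def rr : Fi24 := wprod uu rhoW

theorem rr_comm_chk : ∀ k < 12,
    Fn.applyW TT ((rhoW ++ s0w) ++ (s0w ++ rhoW).reverse) (qpts.getD k 0) = qpts.getD k 0 := by decide +kernel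

theorem rr_comm_s0 : Commute rr s0 := by
  have h := word_eq (rhoW ++ s0w) (s0w ++ rhoW) ?_ ?_ rr_comm_chk
  · rw [wprod_append, wprod_append] at h
    exact h
  · intro s hs
    rcases List.mem_append.mp hs with hs | hs
    · exact rhoW_lt s hs
    · exact s0w_lt s hs
  · intro s hs
    rcases List.mem_append.mp hs with hs | hs
    · exact s0w_lt s hs
    · exact rhoW_lt s hs

theorem rr_pI : act rr pI = pB3 := by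
  unfold rr
  rw [act_word _ rhoW_lt pI_lt]
  decide +kernel

theorem rr_pB2 : act rr pB2 = pI := by
  unfold rr
  rw [act_word _ rhoW_lt pB2_lt]
  decide +kernel

theorem rr_pB3 : act rr pB3 = pB2 := by
  unfold rr
  rw [act_word _ rhoW_lt pB3_lt]
  decide +kernel

theorem rr_conj_i : rr * uu 11 * rr⁻¹ = tB3 := by
  have h := isT_conj isT_i rr
  rw [rr_pI] at h
  exact elt_unique h isT_tB3

theorem rr_conj_tB2 : rr * tB2 * rr⁻¹ = uu 11 := by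
  have h := isT_conj isT_tB2 rr
  rw [rr_pB2] at h
  exact elt_unique h isT_i

theorem rr_conj_tB3 : rr * tB3 * rr⁻¹ = tB2 := by
  have h := isT_conj isT_tB3 rr
  rw [rr_pB3] at h
  exact elt_unique h isT_tB2

theorem rr_inv_conj_i : rr⁻¹ * uu 11 * rr = tB2 := by
  rw [← rr_conj_tB2]
  group

theorem rr_inv_conj_tB2 : rr⁻¹ * tB2 * rr = tB3 := by
  rw [← rr_conj_tB3]
  group

theorem rr_inv_conj_tB3 : rr⁻¹ * tB3 * rr = uu 11 := by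
  rw [← rr_conj_i]
  group

end Cfsg.Agent.Lib.Helper12.OutFi24
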