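import Cfsg.Agent.Lib.Helper12.OutFi24.Transp

/-!
Tests of all points of the permutation representation of degree `306936` of the presented group Fi24 by evaluation:
the scan of an interval of points, and the tests of the fixed points of lists of words (helper12).
-/

set_option autoImplicit false
set_option maxRecDepth 100000

namespace Cfsg.Agent.Lib.Helper12.OutFi24

open Cfsg.Spor Cfsg.Agent.Lib.Helper12.TC Cfsg.Agent.Lib.Helper12.TCG Cfsg.Agent.Lib.Helper12.TCG.Fi24Pres
  Cfsg.Agent.Lib.Helper12.TCG.Fi24x306936 Cfsg.Agent.Lib.Helper12.Ord Cfsg.Agent.Lib.Helper12.Fi24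
  Cfsg.Agent.Lib.Helper12.Fi24Ex

/-- the test `f` holds at the points of the interval from `lo` to `hi` -/
def scanK (f : ℕ → Bool) (lo hi : ℕ) : Bool :=
  allBelowK hi (fun p => Nat.blt p lo || f p)

theorem scanK_spec {f : ℕ → Bool} {lo hi : ℕ} (h : scanK f lo hi = true) {p : ℕ} (h1 : lo ≤ p) (h2 : p < hi) :
    f p = true := by
  have h3 := (allBelowK_iff _ _).mp h p h2
  rw [Bool.or_eq_true] at h3
  rcases h3 with h3 | h3
  · exact absurd (Nat.le_of_ble_eq_true h3) (by omega)
  · exact h3

/-- all words of the list fix the point -/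
noncomputable def fixAllK (ws : List (List ℕ)) (p : ℕ) : Bool :=
  allListK ws (fun w => Nat.beq (Fn.applyW TT w p) p)

theorem fixAllK_iff (ws : List (List ℕ)) (p : ℕ) :
    fixAllK ws p = true ↔ ∀ w ∈ ws, Fn.applyW TT w p = p := by
  unfold fixAllK
  rw [allListK_iff]
  constructor
  · intro h w hw
    exact Nat.eq_of_beq_eq_true (h w hw)
  · intro h w hw
    rw [h w hw]
    exact Nat.beq_refl p

/-- some word of the list fixes the point -/
noncomputable def fixAnyK (ws : List (List ℕ)) (p : ℕ) : Bool :=
  anyListK ws (fun w => Nat.beq (Fn.applyW TT w p) p)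

theorem fixAnyK_iff (ws : List (List ℕ)) (p : ℕ) :
    fixAnyK ws p = true ↔ ∃ w ∈ ws, Fn.applyW TT w p = p := by
  unfold fixAnyK
  rw [anyListK_iff]
  constructor
  · rintro ⟨w, hw, h⟩
    exact ⟨w, hw, Nat.eq_of_beq_eq_true h⟩
  · rintro ⟨w, hw, h⟩
    refine ⟨w, hw, ?_⟩
    rw [h]
    exact Nat.beq_refl p

/-- the point is in the list -/
def memK (l : List ℕ) (p : ℕ) : Bool := anyListK l (fun x => Nat.beq x p)

theorem memK_iff (l : List ℕ) (p : ℕ) : memK l p = true ↔ p ∈ l := by
  unfold memK
  rw [anyListK_iff]
  constructor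
  · rintro ⟨x, hx, h⟩
    rw [← Nat.eq_of_beq_eq_true h]
    exact hx
  · intro h
    exact ⟨p, h, Nat.beq_refl p⟩

/-- the test of a point: the point is not fixed by all words of the first list, or it is fixed by some word of the
second list, or it is in the list of points -/
noncomputable def testA (fixWs movWs : List (List ℕ)) (excl : List ℕ) (p : ℕ) : Bool :=
  !(fixAllK fixWs p) || (fixAnyK movWs p || memK excl p)

theorem testA_spec {fixWs movWs : List (List ℕ)} {excl : List ℕ} {p : ℕ}
    (h : testA fixWs movWs excl p = true) (hf : ∀ w ∈ fixWs, Fn.applyW TT w p = p)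
    (hm : ∀ w ∈ movWs, Fn.applyW TT w p ≠ p) : p ∈ excl := by
  unfold testA at h
  rw [Bool.or_eq_true, Bool.or_eq_true] at h
  rcases h with h | h | h
  · rw [(fixAllK_iff fixWs p).mpr hf] at h
    exact Bool.noConfusion h
  · obtain ⟨w, hw, hwp⟩ := (fixAnyK_iff movWs p).mp h
    exact absurd hwp (hm w hw)
  · exact (memK_iff excl p).mp h

/-- the test of a point: the point is not fixed by all words of the first list, or it is in the list of points, or it
is fixed by all words of the second list -/
noncomputable def testB (fixWs altWs : List (List ℕ)) (excl : List ℕ) (p : ℕ) : Bool :=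
  !(fixAllK fixWs p) || (memK excl p || fixAllK altWs p)

theorem testB_spec {fixWs altWs : List (List ℕ)} {excl : List ℕ} {p : ℕ}
    (h : testB fixWs altWs excl p = true) (hf : ∀ w ∈ fixWs, Fn.applyW TT w p = p) :
    p ∈ excl ∨ ∀ w ∈ altWs, Fn.applyW TT w p = p := by
  unfold testB at h
  rw [Bool.or_eq_true, Bool.or_eq_true] at h
  rcases h with h | h | h
  · rw [(fixAllK_iff fixWs p).mpr hf] at h
    exact Bool.noConfusion h
  · exact Or.inl ((memK_iff excl p).mp h)
  · exact Or.inr ((fixAllK_iff altWs p).mp h)

/-- the test of the fixed points of the product of the ten generators of the long arm -/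
noncomputable def fS0 : ℕ → Bool := testA [[0, 1, 2, 3, 4, 5, 6, 7, 8, 9]] [] [275365, 201441, 252984]

/-- the test of the points which are fixed by the generators `l`, `k`, `a`, `b`, `c`, `e`, `f`, `g`, `j` and moved by
the generators `d` and `i` -/
noncomputable def fF6 : ℕ → Bool :=
  testA [[0], [1], [2], [3], [4], [6], [7], [8], [9]] [[5], [11]] [275309, 275334]

/-- the test of the points which are fixed by the product of the generators `l` and `j` -/
noncomputable def fF8 : ℕ → Bool := testB [[0, 9]] [[0], [9]] [0, 275581]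

/-- the test of the points which are fixed by the generators other than `k` and `g` -/
noncomputable def fF9 : ℕ → Bool :=
  testA [[0], [9], [2], [3], [4], [5], [6], [7], [10], [11]] [] [0, 275581]

/-- the test of the points which are fixed by the products of `l` and the generators `a`, ..., `f`, `h`, `i` -/
noncomputable def fF12 : ℕ → Bool :=
  testA [[0, 2], [0, 3], [0, 4], [0, 5], [0, 6], [0, 7], [0, 10], [0, 11]] [] [0, 275581, 285077, 286811]

/-- the test of the points which are fixed by the products of `b` and the generators `c`, ..., `j` -/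
noncomputable def fF13 : ℕ → Bool :=
  testA [[3, 4], [3, 5], [3, 6], [3, 7], [3, 8], [3, 9], [3, 10], [3, 11]] [] [0, 1, 3]

end Cfsg.Agent.Lib.Helper12.OutFi24
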