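import Cfsg.Agent.Lib.Helper12.OutFi24.Walk
import Cfsg.Agent.Lib.Helper12.OutFi24.Scan

/-!
An element of order `11` of the presented group Fi24, the product of the ten generators of the long arm, and the three
transpositions which commute with it (helper12).
-/

set_option autoImplicit false
set_option maxRecDepth 100000

namespace Cfsg.Agent.Lib.Helper12.OutFi24

open Cfsg.Spor Cfsg.Agent.Lib.Helper12.TC Cfsg.Agent.Lib.Helper12.TCG Cfsg.Agent.Lib.Helper12.TCG.Fi24Pres
  Cfsg.Agent.Lib.Helper12.TCG.Fi24x306936 Cfsg.Agent.Lib.Helper12.Ord Cfsg.Agent.Lib.Helper12.Fi24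
  Cfsg.Agent.Lib.Helper12.Fi24Ex

theorem wprod_pow (w : List ℕ) (n : ℕ) : wprod uu (List.replicate n w).flatten = (wprod uu w) ^ n := by
  induction n with
  | zero => rw [List.replicate_zero, List.flatten_nil, wprod_nil, pow_zero]
  | succ n ih => rw [List.replicate_succ, List.flatten_cons, wprod_append, ih, pow_succ']

theorem flatten_replicate_lt (w : List ℕ) (n m : ℕ) (hw : ∀ s ∈ w, s < m) :
    ∀ s ∈ (List.replicate n w).flatten, s < m := by
  intro s hs
  rw [List.mem_flatten] at hs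
  obtain ⟨l, hl, hsl⟩ := hs
  rw [List.eq_of_mem_replicate hl] at hsl
  exact hw s hsl

/-- a word of the group which fixes the points of the generators is trivial -/
theorem word_trivial' (w : List ℕ) (hw : ∀ s ∈ w, s < 12)
    (h : ∀ k < 12, Fn.applyW TT w (qpts.getD k 0) = qpts.getD k 0) : wprod uu w = 1 := by
  rw [wprod_uu_eq w hw]
  exact word_trivial w (fun s hs => lt_trans (hw s hs) (by norm_num)) h

/-- the word of the element of order `11` -/
def s0w : List ℕ := [0, 1, 2, 3, 4, 5, 6, 7, 8, 9]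

theorem s0w_lt : ∀ s ∈ s0w, s < 12 := by decide

/-- the element of order `11` -/
noncomputable def s0 : Fi24 := wprod uu s0w

theorem act_s0 {p : ℕ} (hp : p < cN) : act s0 p = Fn.applyW TT s0w p := act_word s0w s0w_lt hp

theorem s0_pow : s0 ^ 11 = 1 := by
  unfold s0
  rw [← wprod_pow]
  apply word_trivial' _ (flatten_replicate_lt s0w 11 12 s0w_lt)
  decide +kernel

theorem s0_ne_one : s0 ≠ 1 := by
  intro h
  have h1 : act s0 0 = Fn.applyW TT s0w 0 := act_s0 hN0
  rw [h, act_one] at h1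
  have h2 : Nat.beq (Fn.applyW TT s0w 0) 0 = false := by decide +kernel
  rw [← h1] at h2
  exact Bool.noConfusion h2

theorem orderOf_s0 : orderOf s0 = 11 := by
  have : Fact (Nat.Prime 11) := ⟨by norm_num⟩
  exact orderOf_eq_prime s0_pow s0_ne_one

/-- the points of the transpositions which commute with the element -/
def pI : ℕ := 275365
def pB2 : ℕ := 201441
def pB3 : ℕ := 252984

/-- the words of the points -/
def wB2 : List ℕ := [10, 7, 4, 5, 6, 3, 4, 5, 10, 7, 8, 5, 6, 7, 3, 4, 5, 6, 2, 3, 4, 5, 10, 11, 7, 4, 5, 6, 3, 4, 5, 10, 9, 8, 7, 6, 5, 4, 3, 2, 1]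
def wB3 : List ℕ := [10, 4, 5, 6, 2, 3, 4, 5, 10, 7, 8, 4, 5, 6, 7, 3, 4, 5, 6, 2, 3, 4, 5, 10, 11, 10, 8, 7, 5, 6, 3, 4, 5, 10, 9, 8, 7, 6, 5, 4, 3, 2, 0, 1]

theorem wB2_lt : ∀ s ∈ wB2, s < 12 := by decide
theorem wB3_lt : ∀ s ∈ wB3, s < 12 := by decide

/-- the transpositions of the points -/
noncomputable def tB2 : Fi24 := wprod uu (wB2 ++ 0 :: wB2.reverse)
noncomputable def tB3 : Fi24 := wprod uu (wB3 ++ 0 :: wB3.reverse)

theorem isT_tB2 : IsT tB2 pB2 := by
  have h := isT_word wB2 wB2_lt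
  have e : Fn.applyW TT wB2 0 = pB2 := by decide +kernel
  rw [e] at h
  exact h

theorem isT_tB3 : IsT tB3 pB3 := by
  have h := isT_word wB3 wB3_lt
  have e : Fn.applyW TT wB3 0 = pB3 := by decide +kernel
  rw [e] at h
  exact h

theorem isT_i : IsT (uu 11) pI := isT_gen (by norm_num : 11 < 12)

theorem pI_lt : pI < cN := by decide
theorem pB2_lt : pB2 < cN := by decide
theorem pB3_lt : pB3 < cN := by decide

/-- the element fixes the three points -/
theorem s0_fix_pI : act s0 pI = pI := by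
  rw [act_s0 pI_lt]
  decide +kernel

theorem s0_fix_pB2 : act s0 pB2 = pB2 := by
  rw [act_s0 pB2_lt]
  decide +kernel

theorem s0_fix_pB3 : act s0 pB3 = pB3 := by
  rw [act_s0 pB3_lt]
  decide +kernel

theorem s0_comm_i : s0 * uu 11 = uu 11 * s0 := (comm_iff isT_i s0).mpr s0_fix_pI
theorem s0_comm_tB2 : s0 * tB2 = tB2 * s0 := (comm_iff isT_tB2 s0).mpr s0_fix_pB2
theorem s0_comm_tB3 : s0 * tB3 = tB3 * s0 := (comm_iff isT_tB3 s0).mpr s0_fix_pB3

/-- the three transpositions commute -/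
theorem i_comm_tB2 : uu 11 * tB2 = tB2 * uu 11 := by
  apply (comm_iff isT_tB2 (uu 11)).mpr
  rw [act_uu (by norm_num) pB2_lt]
  decide +kernel

theorem i_comm_tB3 : uu 11 * tB3 = tB3 * uu 11 := by
  apply (comm_iff isT_tB3 (uu 11)).mpr
  rw [act_uu (by norm_num) pB3_lt]
  decide +kernel

theorem tB2_comm_tB3 : tB2 * tB3 = tB3 * tB2 := by
  apply (comm_iff isT_tB3 tB2).mpr
  unfold tB2
  rw [act_word _ _ pB3_lt]
  · decide +kernel
  · intro s hs
    rw [List.mem_append, List.mem_cons, List.mem_reverse] at hs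
    rcases hs with hs | rfl | hs
    · exact wB2_lt s hs
    · norm_num
    · exact wB2_lt s hs

end Cfsg.Agent.Lib.Helper12.OutFi24
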