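import Cfsg.Agent.Lib.Helper12.OutFi24.Scan

/-! the fixed points of the element of order `11`, part 0 (generated, helper12) -/

set_option autoImplicit false
set_option maxRecDepth 1000000

namespace Cfsg.Agent.Lib.Helper12.OutFi24

theorem S0Chk_0 : scanK fS0 0 8181 = true := by decide +kernel

theorem S0Chk_1 : scanK fS0 8181 16362 = true := by decide +kernel

theorem S0Chk_2 : scanK fS0 16362 24543 = true := by decide +kernel

theorem S0Chk_3 : scanK fS0 24543 32724 = true := by decide +kernel

end Cfsg.Agent.Lib.Helper12.OutFi24
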