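import Cfsg.Agent.Lib.Helper12.OutFi24.LAut

/-!
Every automorphism of the commutator subgroup of the presented group Fi24 maps the centraliser of a transposition to
the centraliser of a transposition, up to conjugations (helper12).
-/

set_option autoImplicit false
set_option maxRecDepth 100000

namespace Cfsg.Agent.Lib.Helper12.OutFi24

open Cfsg.Spor Cfsg.Agent.Lib.Helper12.TC Cfsg.Agent.Lib.Helper12.TCG Cfsg.Agent.Lib.Helper12.TCG.Fi24Pres
  Cfsg.Agent.Lib.Helper12.TCG.Fi24x306936 Cfsg.Agent.Lib.Helper12.Ord Cfsg.Agent.Lib.Helper12.Fi24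
  Cfsg.Agent.Lib.Helper12.Fi24Ex

open scoped commutatorElement Pointwise

/-- the element of order `11` as an element of the commutator subgroup -/
noncomputable def s0L : LG := ⟨s0, s0_mem⟩

instance finite_LG : Finite LG := by
  have : Finite Fi24 := Cfsg.Agent.Lib.Helper12.Fi24Ex.finite
  infer_instance

theorem card_LG : Nat.card LG = 1255205709190661721292800 :=
  card_commutator rho rho_a_ne rho_l_ne rho_a_ne_l spider' rho_index

theorem fact11 : (Nat.card LG).factorization 11 = 1 := by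
  rw [card_LG]
  have e : (1255205709190661721292800 : ℕ) = 11 * 114109609926423792844800 := by norm_num
  rw [e, Nat.factorization_mul (by norm_num) (by norm_num), Finsupp.add_apply,
    Nat.Prime.factorization_self (by norm_num), Nat.factorization_eq_zero_of_not_dvd (by norm_num)]

theorem orderOf_s0L : orderOf s0L = 11 := by
  rw [← Subgroup.orderOf_coe]
  exact orderOf_s0

/-- the image of the subgroup of order `11` is conjugate to the subgroup -/
theorem sylow_step (α : MulAut LG) : ∃ x : LG, ∃ n : ℤ, s0L = ((MulAut.conj x * α) s0L) ^ n := by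
  have : Fact (Nat.Prime 11) := ⟨by norm_num⟩
  have hS : Nat.card (Subgroup.zpowers s0L) = 11 ^ (Nat.card LG).factorization 11 := by
    rw [fact11, pow_one, Nat.card_zpowers, orderOf_s0L]
  have hS' : Nat.card ((Subgroup.zpowers s0L).map α.toMonoidHom) = 11 ^ (Nat.card LG).factorization 11 := by
    rw [Subgroup.card_map_of_injective (show Function.Injective α.toMonoidHom from α.injective)]
    exact hS
  obtain ⟨x, hx⟩ := MulAction.exists_smul_eq LG (Sylow.ofCard _ hS') (Sylow.ofCard _ hS)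
  refine ⟨x, ?_⟩
  have h1 : s0L ∈ ((Sylow.ofCard _ hS : Sylow 11 LG) : Subgroup LG) := Subgroup.mem_zpowers s0L
  rw [← hx, Sylow.coe_subgroup_smul, Subgroup.mem_smul_pointwise_iff_exists] at h1
  obtain ⟨s, hs, hs0⟩ := h1
  obtain ⟨w, hw, rfl⟩ := Subgroup.mem_map.mp hs
  obtain ⟨n, rfl⟩ := Subgroup.mem_zpowers_iff.mp hw
  refine ⟨n, ?_⟩
  have e : (MulAut.conj x * α) s0L ^ n = MulAut.conj x • (α.toMonoidHom (s0L ^ n)) := by
    rw [← map_zpow]
    rfl
  rw [e]
  exact hs0.symm

/-- two of the three products of two of the three transpositions, as elements of the commutator subgroup -/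
noncomputable def z12 : LG := ⟨uu 11 * tB2, isT_mul_mem isT_i isT_tB2⟩
noncomputable def z13 : LG := ⟨uu 11 * tB3, isT_mul_mem isT_i isT_tB3⟩

theorem isT_ne {e e' : Fi24} {p p' : ℕ} (h : IsT e p) (h' : IsT e' p') (hne : p ≠ p') : e ≠ e' := by
  intro he
  rw [he] at h
  exact hne (point_unique h h')

theorem mul_ne_one_of_isT {e e' : Fi24} {p p' : ℕ} (h : IsT e p) (h' : IsT e' p') (hne : p ≠ p') :
    e * e' ≠ 1 := by
  intro h1
  have h2 : e = e'⁻¹ := eq_inv_of_mul_eq_one_left h1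
  rw [isT_inv h'] at h2
  exact isT_ne h h' hne h2

theorem z12_ne_one : z12 ≠ 1 := by
  intro h
  exact mul_ne_one_of_isT isT_i isT_tB2 (by decide) (congrArg Subtype.val h)

theorem z13_ne_one : z13 ≠ 1 := by
  intro h
  exact mul_ne_one_of_isT isT_i isT_tB3 (by decide) (congrArg Subtype.val h)

theorem z12_ne_z13 : z12 ≠ z13 := by
  intro h
  have h1 : uu 11 * tB2 = uu 11 * tB3 := congrArg Subtype.val h
  exact isT_ne isT_tB2 isT_tB3 (by decide) (mul_left_cancel h1)

theorem z12_sq : z12 * z12 = 1 := Subtype.ext (sq_of_comm ci2 (uu_sq 11) tB2_sq)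

theorem z13_sq : z13 * z13 = 1 := Subtype.ext (sq_of_comm ci3 (uu_sq 11) tB3_sq)

theorem z12_comm : Commute z12 s0L :=
  commute_coe_iff.mp ((show Commute (uu 11) s0 from s0_comm_i.symm).mul_left s0_comm_tB2.symm)

theorem z13_comm : Commute z13 s0L :=
  commute_coe_iff.mp ((show Commute (uu 11) s0 from s0_comm_i.symm).mul_left s0_comm_tB3.symm)

/-- the images of the involutions which commute with the element of order `11` -/
theorem img_invol (β : MulAut LG) {n : ℤ} (hn : s0L = (β s0L) ^ n) {z : LG} (hz : Commute z s0L)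
    (hz2 : z * z = 1) (hz1 : z ≠ 1) : IsZ3 ((β z : LG) : Fi24) := by
  have h1 : Commute (β z) s0L := by
    rw [hn]
    exact (hz.map β).zpow_right n
  have h2 : ((β z : LG) : Fi24) * ((β z : LG) : Fi24) = 1 := by
    have : β z * β z = 1 := by rw [← map_mul, hz2, map_one]
    exact congrArg Subtype.val this
  rcases invol_cent (β z).2 (commute_coe_iff.mpr h1) h2 with h3 | h3
  · exfalso
    apply hz1
    apply β.injective
    rw [map_one]
    exact Subtype.ext h3
  · exact h3

/-- the elements which map the first generator to the three transpositions -/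
theorem exists_conj_of_mem {u : Fi24} (hu : u = uu 11 ∨ u = tB2 ∨ u = tB3) : ∃ c : Fi24, c * uu 0 * c⁻¹ = u := by
  rcases hu with rfl | rfl | rfl
  · exact ⟨gg1, gg1_0⟩
  · refine ⟨rr⁻¹ * gg1, ?_⟩
    calc rr⁻¹ * gg1 * uu 0 * (rr⁻¹ * gg1)⁻¹ = rr⁻¹ * (gg1 * uu 0 * gg1⁻¹) * rr := by group
      _ = tB2 := by rw [gg1_0, rr_inv_conj_i]
  · refine ⟨rr * gg1, ?_⟩
    calc rr * gg1 * uu 0 * (rr * gg1)⁻¹ = rr * (gg1 * uu 0 * gg1⁻¹) * rr⁻¹ := by group
      _ = tB3 := by rw [gg1_0, rr_conj_i]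

/-- the image of the centraliser of the generator `i` -/
theorem img_CL_i (β : MulAut LG) {n : ℤ} (hn : s0L = (β s0L) ^ n) :
    ∃ u : Fi24, (u = uu 11 ∨ u = tB2 ∨ u = tB3) ∧ mapA β (CL (uu 11)) = CL u := by
  have h12 := img_invol β hn z12_comm z12_sq z12_ne_one
  have h13 := img_invol β hn z13_comm z13_sq z13_ne_one
  have hne : ((β z12 : LG) : Fi24) ≠ ((β z13 : LG) : Fi24) := by
    intro h
    exact z12_ne_z13 (β.injective (Subtype.ext h))
  rcases h12 with h12 | h12 | h12 <;> rcases h13 with h13 | h13 | h13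
  · exact absurd (h12.trans h13.symm) hne
  · exact ⟨uu 11, Or.inl rfl, mapA_CL_of_PB β PB_i PB_i z12 z13 rfl rfl h12 h13⟩
  · exact ⟨tB2, Or.inr (Or.inl rfl), mapA_CL_of_PB β PB_i (PB_symm PB_2) z12 z13 rfl rfl
      (h12.trans ci2.eq) h13⟩
  · exact ⟨uu 11, Or.inl rfl, mapA_CL_of_PB β PB_i (PB_symm PB_i) z12 z13 rfl rfl h12 h13⟩
  · exact absurd (h12.trans h13.symm) hne
  · exact ⟨tB3, Or.inr (Or.inr rfl), mapA_CL_of_PB β PB_i PB_3 z12 z13 rfl rfl
      (h12.trans ci3.eq) (h13.trans c23.eq)⟩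
  · exact ⟨tB2, Or.inr (Or.inl rfl), mapA_CL_of_PB β PB_i PB_2 z12 z13 rfl rfl h12 (h13.trans ci2.eq)⟩
  · exact ⟨tB3, Or.inr (Or.inr rfl), mapA_CL_of_PB β PB_i (PB_symm PB_3) z12 z13 rfl rfl
      (h12.trans c23.eq) (h13.trans ci3.eq)⟩
  · exact absurd (h12.trans h13.symm) hne

theorem mapA_inv_mapA (a : MulAut LG) (H : Subgroup LG) : mapA a⁻¹ (mapA a H) = H := by
  rw [← mapA_mul, inv_mul_cancel, mapA_one]

/-- up to conjugations, an automorphism maps the centraliser of the first generator to itself -/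
theorem star (α : MulAut LG) : ∃ a b : Fi24, mapA (cj a * α * cj b) (CL (uu 0)) = CL (uu 0) := by
  obtain ⟨x, n, hn⟩ := sylow_step α
  obtain ⟨u, hu, hβ⟩ := img_CL_i (MulAut.conj x * α) hn
  obtain ⟨c, hc⟩ := exists_conj_of_mem hu
  refine ⟨c⁻¹ * x, gg1, ?_⟩
  have e1 : CL (uu 11) = mapA (cj gg1) (CL (uu 0)) := by rw [mapA_cj_CL, gg1_0]
  have e2 : CL u = mapA (cj c) (CL (uu 0)) := by rw [mapA_cj_CL, hc]
  rw [e1, e2] at hβ
  have e3 : cj (c⁻¹ * (x : Fi24)) * α * cj gg1 = (cj c)⁻¹ * ((MulAut.conj x * α) * cj gg1) := by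
    rw [map_mul, map_inv]
    have : cj (x : Fi24) = MulAut.conj x := MulAut.conjNormal_val
    rw [this]
    group
  rw [e3, mapA_mul, mapA_mul, hβ, mapA_inv_mapA]

end Cfsg.Agent.Lib.Helper12.OutFi24
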