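import Cfsg.Agent.Lib.Helper12.Fi24Ex.Sub23

/-!
The transpositions of the presented group Fi24 and the points of its permutation representation of degree `306936`:
the action on the natural numbers, the transposition of a point, and the elements which commute with a transposition
(helper12).
-/

set_option autoImplicit false
set_option maxRecDepth 100000

namespace Cfsg.Agent.Lib.Helper12.OutFi24

open Cfsg.Spor Cfsg.Agent.Lib.Helper12.TC Cfsg.Agent.Lib.Helper12.TCG Cfsg.Agent.Lib.Helper12.TCG.Fi24Pres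
  Cfsg.Agent.Lib.Helper12.TCG.Fi24x306936 Cfsg.Agent.Lib.Helper12.Ord Cfsg.Agent.Lib.Helper12.Fi24
  Cfsg.Agent.Lib.Helper12.Fi24Ex

/-- the twelve generators as letters: the other letters are trivial -/
noncomputable def uu (s : ℕ) : Fi24 := if s < 12 then v s else 1

theorem uu_gen {k : ℕ} (hk : k < 12) : uu k = v k := by
  unfold uu
  rw [if_pos hk]

theorem uu_sq (s : ℕ) : uu s * uu s = 1 := by
  unfold uu
  split
  · exact hvsq s ‹_›
  · rw [one_mul]

theorem uu_inv (s : ℕ) : (uu s)⁻¹ = uu s := inv_eq_of_mul_eq_one_left (uu_sq s)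

theorem wprod_uu_eq (w : List ℕ) (hw : ∀ s ∈ w, s < 12) : wprod uu w = wprod v w := by
  induction w with
  | nil => rfl
  | cons s l ih =>
    rw [wprod_cons, wprod_cons, uu_gen (hw s List.mem_cons_self),
      ih (fun t ht => hw t (List.mem_cons_of_mem _ ht))]

theorem wprod_reverse (w : List ℕ) : wprod uu w.reverse = (wprod uu w)⁻¹ :=
  wprod_reverse_of_invol uu uu_sq w

/-- the action on the natural numbers: the numbers which are not points are fixed -/
noncomputable def act (x : Fi24) (p : ℕ) : ℕ :=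
  if h : p < cN then ((rho x ⟨p, h⟩ : Fin cN) : ℕ) else p

theorem act_of_lt (x : Fi24) {p : ℕ} (h : p < cN) : act x p = ((rho x ⟨p, h⟩ : Fin cN) : ℕ) := by
  unfold act
  rw [dif_pos h]

theorem act_lt (x : Fi24) {p : ℕ} (h : p < cN) : act x p < cN := by
  rw [act_of_lt x h]
  exact (rho x ⟨p, h⟩).isLt

theorem act_one (p : ℕ) : act 1 p = p := by
  unfold act
  split
  · rw [map_one]; rfl
  · rfl

theorem act_mul (x y : Fi24) (p : ℕ) : act (x * y) p = act x (act y p) := by
  by_cases h : p < cN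
  · rw [act_of_lt _ h, act_of_lt y h, act_of_lt x (rho y ⟨p, h⟩).isLt, map_mul, Equiv.Perm.mul_apply]
  · unfold act
    rw [dif_neg h, dif_neg h, dif_neg h]

theorem act_inv_act (x : Fi24) (p : ℕ) : act x⁻¹ (act x p) = p := by
  rw [← act_mul, inv_mul_cancel, act_one]

theorem act_act_inv (x : Fi24) (p : ℕ) : act x (act x⁻¹ p) = p := by
  rw [← act_mul, mul_inv_cancel, act_one]

theorem act_injective (x : Fi24) {p q : ℕ} (h : act x p = act x q) : p = q := by
  have := congrArg (act x⁻¹) h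
  rwa [act_inv_act, act_inv_act] at this

theorem act_inv_of_fix {x : Fi24} {p : ℕ} (h : act x p = p) : act x⁻¹ p = p := by
  have := act_inv_act x p
  rw [h] at this
  exact this

theorem act_word (w : List ℕ) (hw : ∀ s ∈ w, s < 12) {p : ℕ} (h : p < cN) :
    act (wprod uu w) p = Fn.applyW TT w p := by
  rw [act_of_lt _ h, wprod_uu_eq w hw,
    Fn.rho_word v rho rho_gen w (fun s hs => lt_trans (hw s hs) (by norm_num))]

theorem act_uu {k : ℕ} (hk : k < 12) {p : ℕ} (h : p < cN) : act (uu k) p = TT k p := by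
  have := act_word [k] (by intro s hs; rw [List.mem_singleton] at hs; rw [hs]; exact hk) h
  rw [wprod_cons, wprod_nil, mul_one] at this
  exact this

/-- the element `e` is the transposition of the point `p` -/
def IsT (e : Fi24) (p : ℕ) : Prop := ∃ g : Fi24, e = g * tt * g⁻¹ ∧ act g 0 = p

theorem isT_lt {e : Fi24} {p : ℕ} (h : IsT e p) : p < cN := by
  obtain ⟨g, _, rfl⟩ := h
  exact act_lt g hN0

theorem mem_Hs_fix {h : Fi24} (hh : h ∈ Hs) : act h 0 = 0 := by
  obtain ⟨Φ, hΦ⟩ := rho_equiv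
  rw [act_of_lt h hN0]
  have h1 : ((h : Fi24) : Fi24 ⧸ Hs) = ((1 : Fi24) : Fi24 ⧸ Hs) := by
    rw [QuotientGroup.eq]
    simpa using hh
  have h2 := congrArg Φ h1
  rw [hΦ, hΦ, map_one] at h2
  rw [h2]
  rfl

theorem fix_iff_comm (g : Fi24) : act g 0 = 0 ↔ g * tt = tt * g := by
  constructor
  · intro h
    apply l_central
    apply mem_Hs_of_fix
    apply Fin.ext
    rw [act_of_lt g hN0] at h
    exact h
  · intro h
    apply mem_Hs_fix
    rw [← centralizer_tt, Subgroup.mem_centralizer_singleton_iff]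
    exact h

/-- the commuting of an element with a transposition -/
theorem comm_iff {e : Fi24} {p : ℕ} (h : IsT e p) (x : Fi24) :
    x * e = e * x ↔ act x p = p := by
  obtain ⟨g, rfl, rfl⟩ := h
  have h1 : x * (g * tt * g⁻¹) = g * tt * g⁻¹ * x ↔ (g⁻¹ * x * g) * tt = tt * (g⁻¹ * x * g) := by
    constructor
    · intro h
      have : g⁻¹ * (x * (g * tt * g⁻¹)) * g = g⁻¹ * (g * tt * g⁻¹ * x) * g := by rw [h]
      have e1 : g⁻¹ * (x * (g * tt * g⁻¹)) * g = (g⁻¹ * x * g) * tt := by group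
      have e2 : g⁻¹ * (g * tt * g⁻¹ * x) * g = tt * (g⁻¹ * x * g) := by group
      rw [e1, e2] at this
      exact this
    · intro h
      have e1 : x * (g * tt * g⁻¹) = g * ((g⁻¹ * x * g) * tt) * g⁻¹ := by group
      have e2 : g * tt * g⁻¹ * x = g * (tt * (g⁻¹ * x * g)) * g⁻¹ := by group
      rw [e1, e2, h]
  rw [h1, ← fix_iff_comm, act_mul, act_mul]
  constructor
  · intro h
    have := congrArg (act g) h
    rw [← act_mul, mul_inv_cancel, act_one] at this
    exact this
  · intro h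
    rw [h, act_inv_act]

theorem point_unique {e : Fi24} {p p' : ℕ} (h : IsT e p) (h' : IsT e p') : p = p' := by
  obtain ⟨g, rfl, rfl⟩ := h
  obtain ⟨g', hg', rfl⟩ := h'
  have h1 : (g'⁻¹ * g) * tt = tt * (g'⁻¹ * g) := by
    have e1 : (g'⁻¹ * g) * tt = g'⁻¹ * (g * tt * g⁻¹) * g := by group
    rw [e1, hg']
    group
  have h2 := (fix_iff_comm _).mpr h1
  rw [act_mul] at h2
  have := congrArg (act g') h2
  rw [← act_mul, mul_inv_cancel, act_one] at this
  exact this

theorem elt_unique {e e' : Fi24} {p : ℕ} (h : IsT e p) (h' : IsT e' p) : e = e' := by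
  obtain ⟨g, rfl, rfl⟩ := h
  obtain ⟨g', rfl, hp⟩ := h'
  have h2 : act (g'⁻¹ * g) 0 = 0 := by
    rw [act_mul, ← hp, act_inv_act]
  have h1 := (fix_iff_comm _).mp h2
  have e1 : g * tt * g⁻¹ = g' * ((g'⁻¹ * g) * tt) * g⁻¹ := by group
  rw [e1, h1]
  group

theorem isT_conj {e : Fi24} {p : ℕ} (h : IsT e p) (x : Fi24) :
    IsT (x * e * x⁻¹) (act x p) := by
  obtain ⟨g, rfl, rfl⟩ := h
  exact ⟨x * g, by group, act_mul x g 0⟩

theorem isT_tt : IsT tt 0 := ⟨1, by group, act_one 0⟩

theorem isT_sq {e : Fi24} {p : ℕ} (h : IsT e p) : e * e = 1 := by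
  obtain ⟨g, rfl, _⟩ := h
  have e1 : g * tt * g⁻¹ * (g * tt * g⁻¹) = g * (tt * tt) * g⁻¹ := by group
  rw [e1, tt_sq]
  group

theorem isT_inv {e : Fi24} {p : ℕ} (h : IsT e p) : e⁻¹ = e := inv_eq_of_mul_eq_one_left (isT_sq h)

/-- the point of a generator -/
def qp (k : ℕ) : ℕ := qpts.getD k 0

theorem qp_lt : ∀ k < 12, qp k < cN := by decide

theorem isT_gen {k : ℕ} (hk : k < 12) : IsT (uu k) (qp k) := by
  refine ⟨wprod v (cw k), ?_, ?_⟩
  · rw [uu_gen hk]
    exact conj_gen k hk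
  · rw [act_of_lt _ hN0, Fn.rho_word v rho rho_gen (cw k) (cw_lt k hk)]
    exact cw_pt k hk

theorem ne_one_of_isT {e : Fi24} {p : ℕ} (h : IsT e p) : e ≠ 1 := by
  obtain ⟨g, rfl, _⟩ := h
  intro h1
  apply tt_ne_one
  have : tt = g⁻¹ * (g * tt * g⁻¹) * g := by group
  rw [this, h1]
  group

theorem mem_conjugatesOf_iff (e : Fi24) : e ∈ conjugatesOf tt ↔ ∃ p, IsT e p := by
  show IsConj tt e ↔ _
  rw [isConj_iff]
  constructor
  · rintro ⟨c, hc⟩
    exact ⟨_, c, hc.symm, rfl⟩
  · rintro ⟨_, c, hc, _⟩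
    exact ⟨c, hc.symm⟩

/-- the transposition of the image of the first point under a word -/
theorem isT_word (w : List ℕ) (hw : ∀ s ∈ w, s < 12) :
    IsT (wprod uu (w ++ 0 :: w.reverse)) (Fn.applyW TT w 0) := by
  have e : uu 0 = tt := by rw [uu_gen (by norm_num : 0 < 12)]; rfl
  rw [wprod_append, wprod_cons, wprod_reverse w, ← mul_assoc, e, ← act_word w hw hN0]
  exact isT_conj isT_tt _

/-- every point has a transposition -/
theorem exists_isT {p : ℕ} (hp : p < cN) : ∃ e, IsT e p := by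
  obtain ⟨Φ, hΦ⟩ := rho_equiv
  obtain ⟨q, hq⟩ := Φ.surjective ⟨p, hp⟩
  induction q using QuotientGroup.induction_on with
  | H γ =>
    refine ⟨γ * tt * γ⁻¹, γ, rfl, ?_⟩
    rw [act_of_lt _ hN0, ← hΦ, hq]

/-- two transpositions commute if and only if the one fixes the point of the other -/
theorem comm_isT_iff {e e' : Fi24} {p' : ℕ} (h' : IsT e' p') :
    e * e' = e' * e ↔ act e p' = p' := comm_iff h' e

end Cfsg.Agent.Lib.Helper12.OutFi24
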