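import Cfsg.Agent.Lib.Helper12.OutFi24.WalkTab

/-!
The walk along the tree of the permutation representation of the presented group Fi24: a test of the commuting of the
transpositions of two points (helper12).
-/

set_option autoImplicit false
set_option maxRecDepth 100000

namespace Cfsg.Agent.Lib.Helper12.OutFi24

open Cfsg.Spor Cfsg.Agent.Lib.Helper12.TC Cfsg.Agent.Lib.Helper12.TCG Cfsg.Agent.Lib.Helper12.TCG.Fi24Pres
  Cfsg.Agent.Lib.Helper12.TCG.Fi24x306936 Cfsg.Agent.Lib.Helper12.Ord Cfsg.Agent.Lib.Helper12.Fi24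
  Cfsg.Agent.Lib.Helper12.Fi24Ex

/-- the label of a point -/
def GT (p : ℕ) : ℕ := Nat.land (Nat.shiftRight GTn (Nat.mul 4 p)) 15

/-- the walk to the first point: the result is the successor of the image of `q`, and `0` if the first point is not
reached -/
noncomputable def walkQ (f : ℕ) : ℕ → ℕ → ℕ :=
  @Nat.rec (fun _ => ℕ → ℕ → ℕ) (fun p q => cond (Nat.beq p 0) (Nat.succ q) 0)
    (fun _ ih p q => cond (Nat.beq p 0) (Nat.succ q)
      (forceN (GT p) (fun g => cond (Nat.blt g 12)
        (forceN (TT g p) (fun p' => forceN (TT g q) (fun q' => ih p' q'))) 0))) f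

theorem walkQ_zero (p q : ℕ) : walkQ 0 p q = cond (Nat.beq p 0) (Nat.succ q) 0 := rfl

theorem walkQ_succ (f p q : ℕ) : walkQ (f + 1) p q = cond (Nat.beq p 0) (Nat.succ q)
    (cond (Nat.blt (GT p) 12) (walkQ f (TT (GT p) p) (TT (GT p) q)) 0) := by
  show cond (Nat.beq p 0) (Nat.succ q)
      (forceN (GT p) (fun g => cond (Nat.blt g 12)
        (forceN (TT g p) (fun p' => forceN (TT g q) (fun q' => walkQ f p' q'))) 0)) = _
  rw [forceN_eq, forceN_eq, forceN_eq]

/-- the walk is the action of an element of the group -/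
theorem walkQ_spec (f : ℕ) : ∀ (p q r : ℕ), p < cN → q < cN → walkQ f p q = Nat.succ r →
    ∃ x : Fi24, act x p = 0 ∧ act x q = r := by
  induction f with
  | zero =>
    intro p q r _ _ h
    rw [walkQ_zero] at h
    cases hp : Nat.beq p 0 with
    | false => rw [hp] at h; exact absurd h (by simp)
    | true =>
      rw [hp] at h
      have h1 : p = 0 := Nat.eq_of_beq_eq_true hp
      have h2 : q = r := Nat.succ.inj h
      exact ⟨1, by rw [act_one, h1], by rw [act_one, h2]⟩
  | succ f ih =>
    intro p q r hp hq h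
    rw [walkQ_succ] at h
    cases hp0 : Nat.beq p 0 with
    | true =>
      rw [hp0] at h
      have h1 : p = 0 := Nat.eq_of_beq_eq_true hp0
      have h2 : q = r := Nat.succ.inj h
      exact ⟨1, by rw [act_one, h1], by rw [act_one, h2]⟩
    | false =>
      rw [hp0] at h
      cases hg : Nat.blt (GT p) 12 with
      | false => rw [hg] at h; exact absurd h (by simp)
      | true =>
        rw [hg] at h
        have hg12 : GT p < 12 := Nat.le_of_ble_eq_true hg
        have e1 : TT (GT p) p = act (uu (GT p)) p := (act_uu hg12 hp).symm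
        have e2 : TT (GT p) q = act (uu (GT p)) q := (act_uu hg12 hq).symm
        rw [e1, e2] at h
        obtain ⟨x, hx1, hx2⟩ := ih _ _ r (act_lt _ hp) (act_lt _ hq) h
        exact ⟨x * uu (GT p), by rw [act_mul, hx1], by rw [act_mul, hx2]⟩

/-- the test of the commuting of two transpositions -/
theorem comm_of_walk {e e' : Fi24} {p q r : ℕ} (f : ℕ) (he : IsT e p) (he' : IsT e' q)
    (h : walkQ f p q = Nat.succ r) : e * e' = e' * e ↔ TT 0 r = r := by
  obtain ⟨x, hx1, hx2⟩ := walkQ_spec f p q r (isT_lt he) (isT_lt he') h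
  have h1 := isT_conj he x
  rw [hx1] at h1
  have h2 := isT_conj he' x
  rw [hx2] at h2
  have h3 : x * e * x⁻¹ = tt := elt_unique h1 isT_tt
  have hr : r < cN := isT_lt h2
  have h4 : tt * (x * e' * x⁻¹) = x * e' * x⁻¹ * tt ↔ act tt r = r := comm_iff h2 tt
  have e0 : uu 0 = tt := by rw [uu_gen (by norm_num : 0 < 12)]; rfl
  have h5 : act tt r = TT 0 r := by rw [← e0]; exact act_uu (by norm_num) hr
  rw [← h5, ← h4, ← h3]
  constructor
  · intro hc
    have : x * e * x⁻¹ * (x * e' * x⁻¹) = x * (e * e') * x⁻¹ := by group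
    rw [this, hc]
    group
  · intro hc
    have e1 : e * e' = x⁻¹ * (x * e * x⁻¹ * (x * e' * x⁻¹)) * x := by group
    rw [e1, hc]
    group

end Cfsg.Agent.Lib.Helper12.OutFi24
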